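import Cfsg.Agent.Lib.LinearSmall.Nineteen.Worlds

/-!
# The characters outside a family
-/

namespace CfsgLib.LinearSmall.Nineteen

open Cfsg CfsgLib.Blocks CfsgLib.Blocks.DefectOne CfsgLib.CharTheory CfsgLib.CharTheory.SmallDegree
open CfsgLib.SmallSylow CfsgLib.FeitSmall Finset
open scoped ComplexConjugate

set_option linter.unusedVariables false
set_option linter.style.haveILetI false
set_option linter.unusedSectionVars false

universe u

variable {p : ℕ} [Fact p.Prime] {G : Type u} [Group G] [Fintype G] {P : Sylow p G} {x : G} {e t : ℕ}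
variable {D : Data P x e t} {w : Subgroup.center G →* ℂ} {F : ZMod p → IrrCharacter G} {n : ℕ} {ε : ℤ}

/-- The characters over `w` outside the family. -/
noncomputable def others (F : ZMod p → IrrCharacter G) (w : Subgroup.center G →* ℂ) :
    Finset (IrrCharacter G) := by
  classical exact world w \ (univ.erase (0 : ZMod p)).image F

theorem mem_others {χ : IrrCharacter G} :
    χ ∈ others F w ↔ HasCen (χ : G → ℂ) w ∧ ∀ a : ZMod p, a ≠ 0 → χ ≠ F a := by
  classical
  simp only [others, mem_sdiff, mem_world, mem_image, mem_erase, mem_univ, and_true, not_exists, not_and]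
  exact and_congr_right fun _ => ⟨fun h a ha e1 => h a ha e1.symm, fun h a ha e1 => h a ha e1.symm⟩

theorem sum_world [DecidableEq (IrrCharacter G)] (hF : Fam D w F n ε) (φ : IrrCharacter G → ℂ) :
    ∑ χ ∈ world w, φ χ =
      ∑ χ ∈ others F w, φ χ + ∑ χ ∈ (univ.erase (0 : ZMod p)).image F, φ χ := by
  have hsub : (univ.erase (0 : ZMod p)).image F ⊆ world w := fun χ hχ => by
    obtain ⟨a, ha, rfl⟩ := mem_image.1 hχ
    exact mem_world.2 (hF.cen a (mem_erase.1 ha).1)
  rw [show others F w = world w \ (univ.erase (0 : ZMod p)).image F from by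
    classical
    ext χ; simp [others]]
  exact (Finset.sum_sdiff hsub).symm

theorem sum_image [DecidableEq (IrrCharacter G)] (hF : Fam D w F n ε) (φ : IrrCharacter G → ℂ) :
    (e : ℂ) * ∑ χ ∈ (univ.erase (0 : ZMod p)).image F, φ χ = ∑ a ∈ univ.erase (0 : ZMod p), φ (F a) := by
  rw [← Finset.sum_fiberwise_of_maps_to (g := F) (t := (univ.erase (0 : ZMod p)).image F)
    (fun z hz => mem_image_of_mem F hz), Finset.mul_sum]
  refine Finset.sum_congr rfl fun χ hχ => ?_
  obtain ⟨a, ha, rfl⟩ := mem_image.1 hχ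
  have ha0 := (mem_erase.1 ha).1
  have hfib : (univ.erase (0 : ZMod p)).filter (fun z => F z = F a) = (rts p e).image (a * ·) := by
    ext z
    simp only [mem_filter, mem_erase, mem_univ, and_true, mem_image]
    constructor
    · rintro ⟨hz, hza⟩
      exact ⟨z / a, (hF.eq_iff a z ha0 hz).1 hza.symm, by field_simp⟩
    · rintro ⟨r, hr, rfl⟩
      have hr0 := ne_zero_rts D.A.epos hr
      exact ⟨mul_ne_zero ha0 hr0, ((hF.eq_iff a _ ha0 (mul_ne_zero ha0 hr0)).2
        (by rwa [mul_div_cancel_left₀ _ ha0])).symm⟩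
  rw [Finset.sum_congr rfl fun z hz => show φ (F z) = φ (F a) by rw [(mem_filter.1 hz).2], sum_const,
    hfib, card_image_of_injective _ (mul_right_injective₀ ha0), D.A.card_rts, nsmul_eq_mul]

theorem apply_fam (hF : Fam D w F n ε) {a : ZMod p} (ha : a ≠ 0) :
    (F a : G → ℂ) x = (ε : ℂ) * ∑ r ∈ rts p e, psi p (a * r) := by
  conv_lhs => rw [← xp_one (p := p) (x := x)]
  rw [mult_expand (F a : G → ℂ), Finset.sum_congr rfl fun z _ => show mult x (F a : G → ℂ) z * psi p (z * 1) =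
    (n : ℂ) * psi p (z * 1) + (ε : ℂ) * (if z / a ∈ rts p e then psi p z else 0) by
      rw [hF.vals a ha, mul_one, add_mul]; split_ifs <;> ring,
    Finset.sum_add_distrib, ← Finset.mul_sum, ← Finset.mul_sum, sum_psi_mul, if_neg one_ne_zero, mul_zero,
    zero_add, ← Finset.sum_filter]
  congr 1
  refine (Finset.sum_nbij' (fun r => a * r) (fun z => z / a) (fun r hr => ?_) (fun z hz => ?_)
    (fun r _ => mul_div_cancel_left₀ _ ha) (fun z _ => mul_div_cancel₀ _ ha) fun r _ => rfl).symm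
  · simp only [mem_coe, mem_filter, mem_univ, true_and] at hr ⊢
    rwa [mul_div_cancel_left₀ _ ha]
  · simp only [mem_coe, mem_filter, mem_univ, true_and] at hz ⊢
    exact hz

theorem sum_psi_ne (b : ZMod p) :
    ∑ a ∈ univ.erase (0 : ZMod p), psi p (a * b) = (if b = 0 then (p : ℂ) else 0) - 1 := by
  rw [Finset.sum_erase_eq_sub (mem_univ _), sum_psi_mul, zero_mul, AddChar.map_zero_eq_one]

theorem sum_fam_x [DecidableEq (IrrCharacter G)] (hF : Fam D w F n ε) :
    ∑ χ ∈ (univ.erase (0 : ZMod p)).image F, conj ((χ : G → ℂ) x) = -(ε : ℂ) := by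
  have he0 : (e : ℂ) ≠ 0 := Nat.cast_ne_zero.2 D.A.epos
  refine mul_left_cancel₀ he0 ?_
  rw [sum_image hF, ← map_sum, Finset.sum_congr rfl fun a ha => apply_fam hF (mem_erase.1 ha).1,
    ← Finset.mul_sum, Finset.sum_comm, Finset.sum_congr rfl fun r hr => by
      rw [sum_psi_ne, if_neg (ne_zero_rts D.A.epos hr), zero_sub],
    sum_const, D.A.card_rts, nsmul_eq_mul, map_mul, map_mul, map_intCast, map_natCast, map_neg, map_one]
  ring

theorem sum_fam_sq [DecidableEq (IrrCharacter G)] (hF : Fam D w F n ε) :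
    ∑ χ ∈ (univ.erase (0 : ZMod p)).image F, (χ : G → ℂ) x * conj ((χ : G → ℂ) x) = (p : ℂ) - e := by
  have he0 : (e : ℂ) ≠ 0 := Nat.cast_ne_zero.2 D.A.epos
  have hε : (ε : ℂ) * ε = 1 := by rcases hF.sgn with h' | h' <;> rw [h'] <;> norm_num
  refine mul_left_cancel₀ he0 ?_
  rw [sum_image hF, Finset.sum_congr rfl fun a ha => show (F a : G → ℂ) x * conj ((F a : G → ℂ) x) =
      ∑ r ∈ rts p e, ∑ s ∈ rts p e, psi p (a * (r - s)) by
    rw [apply_fam hF (mem_erase.1 ha).1, map_mul, map_intCast, map_sum, mul_mul_mul_comm, hε, one_mul,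
      Finset.sum_mul_sum]
    refine Finset.sum_congr rfl fun r _ => Finset.sum_congr rfl fun s _ => ?_
    rw [psi_conj, ← AddChar.map_add_eq_mul, mul_sub, sub_eq_add_neg],
    Finset.sum_comm, Finset.sum_congr rfl fun r _ => Finset.sum_comm,
    Finset.sum_congr rfl fun r hr => show ∑ s ∈ rts p e, ∑ a ∈ univ.erase (0 : ZMod p), psi p (a * (r - s)) =
      (p : ℂ) - e by
      rw [Finset.sum_congr rfl fun s _ => show ∑ a ∈ univ.erase (0 : ZMod p), psi p (a * (r - s)) =
          (if r = s then (p : ℂ) else 0) - 1 by rw [sum_psi_ne]; simp only [sub_eq_zero],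
        Finset.sum_sub_distrib, Finset.sum_ite_eq, if_pos hr, sum_const, D.A.card_rts, nsmul_eq_mul, mul_one],
    sum_const, D.A.card_rts, nsmul_eq_mul]

/-- Outside the family the multiplicities take two values. -/
theorem others_shape (hF : Fam D w F n ε) {χ : IrrCharacter G} (hχ : χ ∈ others F w) :
    ∃ (σ : ℤ) (M : ℕ), mult x (χ : G → ℂ) (0 : ZMod p) = (M : ℂ) + σ ∧
      (∀ z : ZMod p, z ≠ 0 → mult x (χ : G → ℂ) z = M) ∧ (χ : G → ℂ) x = σ ∧
      (χ : G → ℂ) 1 = (p : ℂ) * M + σ := by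
  obtain ⟨hc, hn⟩ := mem_others.1 hχ
  obtain ⟨M, hM⟩ := D.mult_nat (isCharacter_of_irr χ.2) (1 : ZMod p)
  obtain ⟨M0, hM0⟩ := D.mult_nat (isCharacter_of_irr χ.2) (0 : ZMod p)
  have hm : ∀ z : ZMod p, z ≠ 0 → mult x (χ : G → ℂ) z = M := fun z hz => by
    rw [hF.others χ hc hn z 1 hz one_ne_zero, hM]
  have h0 : mult x (χ : G → ℂ) (0 : ZMod p) = (M : ℂ) + (((M0 : ℤ) - M : ℤ) : ℂ) := by
    rw [hM0]; push_cast; ring
  refine ⟨(M0 : ℤ) - M, M, h0, hm, ?_, ?_⟩
  · conv_lhs => rw [← xp_one (p := p) (x := x)]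
    rw [mult_expand (χ : G → ℂ), Finset.sum_congr rfl fun z _ => show mult x (χ : G → ℂ) z * psi p (z * 1) =
      (M : ℂ) * psi p (z * 1) + (if z = 0 then (((M0 : ℤ) - M : ℤ) : ℂ) else 0) by
        rcases eq_or_ne z 0 with rfl | hz
        · rw [h0, if_pos rfl, zero_mul, AddChar.map_zero_eq_one, mul_one, mul_one]
        · rw [hm z hz, if_neg hz, add_zero],
      Finset.sum_add_distrib, ← Finset.mul_sum, sum_psi_mul, if_neg one_ne_zero, mul_zero, zero_add,
      Finset.sum_ite_eq', if_pos (mem_univ _)]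
  · rw [← sum_mult (x := x) (p := p) (χ : G → ℂ), ← Finset.add_sum_erase _ _ (mem_univ (0 : ZMod p)),
      Finset.sum_congr rfl fun z hz => hm z (mem_erase.1 hz).1, h0, sum_const,
      card_erase_of_mem (mem_univ _), card_univ, ZMod.card, nsmul_eq_mul,
      Nat.cast_sub (Fact.out : p.Prime).one_le]
    push_cast
    ring

/-- The squares outside the family. -/
theorem others_sq (hH : Compl (P : Subgroup G) (Subgroup.center G)) (hF : Fam D w F n ε)
    (σ : IrrCharacter G → ℤ) (hσ : ∀ χ ∈ others F w, (χ : G → ℂ) x = σ χ) :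
    ∑ χ ∈ others F w, σ χ * σ χ = e := by
  classical
  have h := sum_sq hH D w
  rw [sum_world hF, sum_fam_sq hF, Finset.sum_congr rfl fun χ hχ => by rw [hσ χ hχ, map_intCast]] at h
  have h' : ∑ χ ∈ others F w, (σ χ : ℂ) * σ χ = (e : ℂ) := by linear_combination h
  exact_mod_cast h'

/-- A function constant on the family and orthogonal to the column of `x`. -/
theorem others_rel (hF : Fam D w F n ε) (σ : IrrCharacter G → ℤ)
    (hσ : ∀ χ ∈ others F w, (χ : G → ℂ) x = σ χ) (φ : IrrCharacter G → ℂ)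
    (hφ : ∀ a, a ≠ 0 → φ (F a) = φ (F 1))
    (h0 : ∑ χ ∈ world w, φ χ * conj ((χ : G → ℂ) x) = 0) :
    ∑ χ ∈ others F w, (σ χ : ℂ) * φ χ = (ε : ℂ) * φ (F 1) := by
  classical
  rw [sum_world hF, Finset.sum_congr rfl fun χ hχ => show φ χ * conj ((χ : G → ℂ) x) = (σ χ : ℂ) * φ χ by
      rw [hσ χ hχ, map_intCast, mul_comm],
    Finset.sum_congr (s₁ := (univ.erase (0 : ZMod p)).image F) rfl fun χ hχ => show
      φ χ * conj ((χ : G → ℂ) x) = φ (F 1) * conj ((χ : G → ℂ) x) by
      obtain ⟨a, ha, rfl⟩ := mem_image.1 hχ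
      rw [hφ a (mem_erase.1 ha).1],
    ← Finset.mul_sum, sum_fam_x hF] at h0
  linear_combination h0

/-- The relation at a regular element. -/
theorem others_reg (hH : Compl (P : Subgroup G) (Subgroup.center G)) (hF : Fam D w F n ε)
    (σ : IrrCharacter G → ℤ) (hσ : ∀ χ ∈ others F w, (χ : G → ℂ) x = σ χ) {g : G} (hg : ¬ p ∣ orderOf g) :
    ∑ χ ∈ others F w, (σ χ : ℂ) * (χ : G → ℂ) g = (ε : ℂ) * (F 1 : G → ℂ) g :=
  others_rel hF σ hσ (fun χ => (χ : G → ℂ) g) (fun a ha => hF.agree a 1 ha one_ne_zero g hg) (sum_reg hH D w hg)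

/-- The relation from the vanishing class sum. -/
theorem others_triple (hH : Compl (P : Subgroup G) (Subgroup.center G)) (hF : Fam D w F n ε)
    (hneg : (-1 : ZMod p) ∉ rts p e) (σ : IrrCharacter G → ℤ)
    (hσ : ∀ χ ∈ others F w, (χ : G → ℂ) x = σ χ) {g : G} (hg : g * g ∈ Subgroup.center G)
    (hgp : ¬ p ∣ orderOf g) :
    ∑ χ ∈ others F w, (σ χ : ℂ) * ((χ : G → ℂ) g ^ 2 / (χ : G → ℂ) 1) =
      (ε : ℂ) * ((F 1 : G → ℂ) g ^ 2 / (F 1 : G → ℂ) 1) :=
  others_rel hF σ hσ (fun χ => (χ : G → ℂ) g ^ 2 / (χ : G → ℂ) 1)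
    (fun a ha => by
      rw [hF.agree a 1 ha one_ne_zero g hgp, hF.agree a 1 ha one_ne_zero 1 (by
        rw [orderOf_one]; exact (Fact.out : p.Prime).not_dvd_one)])
    (sum_triple hH D hneg w hg)

end CfsgLib.LinearSmall.Nineteen
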