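import Mathlib

/-!
# The two quadratic relations
-/

namespace CfsgLib.LinearSmall.Nineteen

/-- Unless `D A B C` is a square the solutions are proportional. -/
theorem proportional {A B C D a b c f : ℚ} (hA : 0 < A) (hB : 0 < B) (hC : 0 < C) (hD : 0 < D)
    (h1 : a + b = c + f) (h2 : A + B = C + D) (h3 : a ^ 2 / A + b ^ 2 / B = c ^ 2 / C + f ^ 2 / D)
    (hsq : ¬ IsSquare (D * A * B * C)) : D * b = B * f := by
  by_contra hne
  set u := D * a - A * f with hu
  set v := D * b - B * f with hv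
  have hv0 : v ≠ 0 := sub_ne_zero.2 hne
  have h4 : u ^ 2 * B * C + v ^ 2 * A * C - (u + v) ^ 2 * A * B = 0 := by
    field_simp at h3
    have hc : c = a + b - f := by linarith
    have hC' : C = A + B - D := by linarith
    subst hc hC'
    rw [hu, hv]
    linear_combination D * h3
  have hCD : A + B - C = D := by linarith
  have key : (B * (C - A) * u - A * B * v) * (B * (C - A) * u - A * B * v) = D * A * B * C * (v * v) := by
    linear_combination (B * (C - A)) * h4 + (A * B * C * v ^ 2) * hCD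
  apply hsq
  refine ⟨(B * (C - A) * u - A * B * v) / v, ?_⟩
  rw [div_mul_div_comm, key, mul_div_assoc, div_self (mul_ne_zero hv0 hv0), mul_one]

theorem not_isSquare_cast {N : ℕ} (h : Nat.sqrt N * Nat.sqrt N ≠ N) : ¬ IsSquare (N : ℚ) := by
  rw [Rat.isSquare_natCast_iff]
  rintro ⟨r, hr⟩
  exact h ((Nat.exists_mul_self N).1 ⟨r, hr.symm⟩)

theorem nonsquare_one {a b : ℕ} (ha : a % 2 = 1) (hb : b % 2 = 1) (hab : a + b ≤ 12) :
    ¬ IsSquare ((22 * (19 * a + 1) * (19 * b + 1) * (19 * (a + b - 1) - 1) : ℕ) : ℚ) := by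
  refine not_isSquare_cast ?_
  have ha' : a ≤ 11 := by omega
  have hb' : b ≤ 11 := by omega
  interval_cases a <;> interval_cases b <;> first
    | (exfalso; omega)
    | norm_num

theorem nonsquare_three :
    ¬ IsSquare ((60 * 20 * 58 * 18 : ℕ) : ℚ) ∧ ¬ IsSquare ((60 * 58 * 20 * 18 : ℕ) : ℚ) ∧
    ¬ IsSquare ((22 * 39 * 1 * 18 : ℕ) : ℚ) ∧ ¬ IsSquare ((22 * 1 * 39 * 18 : ℕ) : ℚ) ∧
    ¬ IsSquare ((22 * 1 * 58 * 37 : ℕ) : ℚ) := by
  refine ⟨?_, ?_, ?_, ?_, ?_⟩ <;> refine not_isSquare_cast ?_ <;> norm_num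

end CfsgLib.LinearSmall.Nineteen
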