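import Cfsg.Agent.Lib.LinearSmall.Nineteen.Tri

/-!
# Coefficients of products outside the family
-/

namespace CfsgLib.LinearSmall.Nineteen

open Cfsg CfsgLib.Blocks CfsgLib.Blocks.DefectOne CfsgLib.CharTheory CfsgLib.CharTheory.SmallDegree
open CfsgLib.SmallSylow CfsgLib.FeitSmall Finset
open scoped ComplexConjugate

set_option linter.unusedVariables false
set_option linter.style.haveILetI false
set_option linter.unusedSectionVars false

universe u

variable {G : Type u} [Group G] [Fintype G] {P : Sylow 19 G} {x h : G} {D : Data P x 3 6} {a₀ : ZMod 19}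
  {w₁ w₂ : Subgroup.center G →* ℂ} {F₁ F₂ F : ZMod 19 → IrrCharacter G} {n : ℕ} {nw : ZMod 3 → ℕ}

/-- The diagonal indicator. -/
def dia (a c : ZMod 19) : ℤ := if -c / a ∈ rts 19 3 then 1 else 0

theorem dia_symm {a c : ZMod 19} : dia a c = dia c a := by
  have key : ∀ a c : ZMod 19, -c / a ∈ rts 19 3 → -a / c ∈ rts 19 3 := fun a c hm => by
    have := inv_mem_rts hm
    rwa [inv_div, div_neg, ← neg_div] at this
  unfold dia
  by_cases hm : -c / a ∈ rts 19 3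
  · rw [if_pos hm, if_pos (key a c hm)]
  · rw [if_neg hm, if_neg fun h' => hm (key c a h')]

theorem coef_step (hh : Gen x 3 h a₀) (h₁ : Zero D h w₁ F₁) (h₂ : Zero D h w₂ F₂) {χ : IrrCharacter G}
    {σ : ℤ} {M : ℕ} {v : ZMod 3 → ℕ} (hs : Sh x h χ σ M v) (hχ : HasCen (χ : G → ℂ) (w₁ * w₂))
    {a a' c : ZMod 19} (ha : a ≠ 0) (ha' : a' ≠ 0) (hc : c ≠ 0) :
    classInner (pf F₁ F₂ a c) (χ : G → ℂ) - (σ : ℂ) * (dia a c : ℂ) =
      classInner (pf F₁ F₂ a' c) (χ : G → ℂ) - (σ : ℂ) * (dia a' c : ℂ) := by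
  have hcc := (h₂.fam.shape hc).conj
  have hfw : HasCen (fun g => (χ : G → ℂ) g * (starRingEnd ℂ) ((F₂ c : G → ℂ) g)) w₁ := by
    have h' := hχ.mul (h₂.fam.cen c hc).conj
    rwa [mul_assoc, hasCen_conj_mul, mul_one] at h'
  have hv : mult x (fun g => (χ : G → ℂ) g * (starRingEnd ℂ) ((F₂ c : G → ℂ) g)) a -
      mult x (fun g => (χ : G → ℂ) g * (starRingEnd ℂ) ((F₂ c : G → ℂ) g)) a' = ((-1 : ℤ) : ℂ) *
      (classInner (fun g => (χ : G → ℂ) g * (starRingEnd ℂ) ((F₂ c : G → ℂ) g)) (F₁ a : G → ℂ) -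
        classInner (fun g => (χ : G → ℂ) g * (starRingEnd ℂ) ((F₂ c : G → ℂ) g)) (F₁ a' : G → ℂ)) :=
    h₁.fam.coef (isClassFunction_char (isCharacter_mul (isCharacter_of_irr χ.2)
    (isCharacter_conj (isCharacter_of_irr (F₂ c).2)))) hfw ha ha'
  have hm : ∀ z : ZMod 19, mult x (fun g => (χ : G → ℂ) g * (starRingEnd ℂ) ((F₂ c : G → ℂ) g)) z =
      16 * (M : ℂ) + (σ : ℂ) * (1 - if z / -c ∈ rts 19 3 then 1 else 0) := by
    intro z
    rw [mult_mul, Finset.sum_congr rfl fun y _ => show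
      mult x (χ : G → ℂ) y * mult x (fun g => (starRingEnd ℂ) ((F₂ c : G → ℂ) g)) (z - y) =
        (M : ℂ) * (1 - if (z - y) / -c ∈ rts 19 3 then 1 else 0) +
          (if y = 0 then (σ : ℂ) * (1 - if z / -c ∈ rts 19 3 then 1 else 0) else 0) by
      rw [hcc (z - y)]
      rcases eq_or_ne y 0 with rfl | hy
      · rw [hs.zero, if_pos rfl, sub_zero]; push_cast; ring
      · rw [hs.rest y hy, if_neg hy, add_zero]; push_cast; ring,
      Finset.sum_add_distrib, Finset.sum_ite_eq', if_pos (mem_univ _), ← Finset.mul_sum,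
      Finset.sum_sub_distrib, sum_const, card_univ, ZMod.card,
      Fintype.sum_equiv (Equiv.subLeft z) (fun y => if (z - y) / -c ∈ rts 19 3 then (1 : ℂ) else 0)
        (fun y => if y / -c ∈ rts 19 3 then (1 : ℂ) else 0) (fun y => rfl),
      sum_ind D.A (neg_ne_zero.2 hc), nsmul_eq_mul]
    push_cast
    ring
  have hdia : ∀ a : ZMod 19, (dia a c : ℂ) = if a / -c ∈ rts 19 3 then 1 else 0 := fun a => by
    rw [dia_symm, dia, div_neg, ← neg_div]
    split_ifs <;> simp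
  rw [hm, hm] at hv
  rw [hdia, hdia, show classInner (pf F₁ F₂ a c) (χ : G → ℂ) = classInner
      (fun g => (χ : G → ℂ) g * (starRingEnd ℂ) ((F₂ c : G → ℂ) g)) (F₁ a : G → ℂ) from
    inner_rot (isCharacter_of_irr (F₁ a).2) (isCharacter_of_irr (F₂ c).2) (isCharacter_of_irr χ.2),
    show classInner (pf F₁ F₂ a' c) (χ : G → ℂ) = classInner
      (fun g => (χ : G → ℂ) g * (starRingEnd ℂ) ((F₂ c : G → ℂ) g)) (F₁ a' : G → ℂ) from
    inner_rot (isCharacter_of_irr (F₁ a').2) (isCharacter_of_irr (F₂ c).2) (isCharacter_of_irr χ.2)]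
  push_cast at hv
  linear_combination hv

theorem pf_comm (a c : ZMod 19) : pf F₂ F₁ c a = pf F₁ F₂ a c := funext fun g => mul_comm _ _

/-- The coefficients outside the family. -/
theorem exists_coef (hh : Gen x 3 h a₀) (h₁ : Zero D h w₁ F₁) (h₂ : Zero D h w₂ F₂) {χ : IrrCharacter G}
    {σ : ℤ} {M : ℕ} {v : ZMod 3 → ℕ} (hs : Sh x h χ σ M v) (hχ : HasCen (χ : G → ℂ) (w₁ * w₂)) :
    ∃ m : ℕ, ∀ a c : ZMod 19, a ≠ 0 → c ≠ 0 →
      classInner (pf F₁ F₂ a c) (χ : G → ℂ) = (m : ℂ) + (σ : ℂ) * (dia a c : ℂ) := by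
  obtain ⟨m, hm⟩ := classInner_char_nat (isCharacter_pf (F₁ := F₁) (F₂ := F₂) 1 1) (isCharacter_of_irr χ.2)
  refine ⟨m, fun a c ha hc => ?_⟩
  have h0 : dia 1 1 = 0 := by rw [dia, if_neg (by rw [div_one]; exact neg_one_notMem)]
  have e1 := coef_step hh h₁ h₂ hs hχ ha one_ne_zero hc
  have e2 := coef_step hh h₂ h₁ hs (by rwa [mul_comm]) hc (one_ne_zero (α := ZMod 19)) (one_ne_zero (α := ZMod 19))
  rw [pf_comm (F₁ := F₁) (F₂ := F₂) (1 : ZMod 19) c, pf_comm (F₁ := F₁) (F₂ := F₂) (1 : ZMod 19) 1, dia_symm (a := c) (c := 1)] at e2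
  rw [h0, Int.cast_zero, mul_zero, sub_zero] at e2
  linear_combination e1 + e2 + hm

/-- The weighted coefficients outside the family sum to zero. -/
theorem Top.sum_coef (hT : Top D h (w₁ * w₂) F₁ F₂ F n nw) (h₁ : Zero D h w₁ F₁) (h₂ : Zero D h w₂ F₂)
    {A B C : IrrCharacter G} {a b c : ℤ} {MA MB MC : ℕ} {vA vB vC : ZMod 3 → ℕ}
    (T : Tri D h (w₁ * w₂) F A B C a b c MA MB MC vA vB vC) {mA mB mC : ℕ}
    (hA : classInner (pf F₁ F₂ 1 1) (A : G → ℂ) = mA) (hB : classInner (pf F₁ F₂ 1 1) (B : G → ℂ) = mB)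
    (hC : classInner (pf F₁ F₂ 1 1) (C : G → ℂ) = mC) : a * mA + b * mB + c * mC = 0 := by
  classical
  obtain ⟨-, -, c0, -⟩ := cc_values
  have hm : ∀ z, mult x (pf F₁ F₂ 1 1) z = (19 : ℂ) - 6 + cc 19 3 1 1 z := fun z => by
    have h0 := (h₁.fam.shape (one_ne_zero (α := ZMod 19))).mul D.A (one_ne_zero (α := ZMod 19))
      (one_ne_zero (α := ZMod 19)) (h₂.fam.shape (one_ne_zero (α := ZMod 19))) z
    change mult x (pf F₁ F₂ 1 1) z = _ at h0
    rw [h0]; push_cast; ring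
  have h0 : mult x (pf F₁ F₂ 1 1) (0 : ZMod 19) - mult x (pf F₁ F₂ 1 1) (1 : ZMod 19) = 0 := by
    rw [hm, hm, cc_zero D.A one_ne_zero, if_neg (by rw [div_one]; exact neg_one_notMem), c0]
    simp
  rw [mult_decomp (isClassFunction_char (isCharacter_pf 1 1)), mult_decomp (isClassFunction_char (isCharacter_pf 1 1)),
    ← Finset.sum_sub_distrib] at h0
  rw [← Finset.sum_subset (Finset.subset_univ ({A, B, C} : Finset (IrrCharacter G)))] at h0
  · rw [Finset.sum_insert (by simp [T.neAB, T.neAC]), Finset.sum_pair T.neBC, hA, hB, hC, T.sA.zero, T.sB.zero,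
      T.sC.zero, T.sA.rest 1 one_ne_zero, T.sB.rest 1 one_ne_zero, T.sC.rest 1 one_ne_zero] at h0
    have h1 : ((a * mA + b * mB + c * mC : ℤ) : ℂ) = 0 := by push_cast; linear_combination h0
    exact_mod_cast h1
  · intro χ _ hχ
    simp only [mem_insert, mem_singleton, not_or] at hχ
    by_cases hz : classInner (pf F₁ F₂ 1 1) (χ : G → ℂ) = 0
    · rw [hz]; ring
    have hw := ((h₁.fam.cen 1 one_ne_zero).mul (h₂.fam.cen 1 one_ne_zero)).of_inner χ hz
    by_cases hfam : χ ∈ others F (w₁ * w₂)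
    · obtain ⟨σ, M, hσ0, hσ1, hσx, -⟩ := others_shape hT.fam hfam
      have hσ : (σ : ℂ) = 0 := hσx.symm.trans (T.rest χ hfam hχ.1 hχ.2.1 hχ.2.2)
      rw [hσ0, hσ1 1 one_ne_zero, hσ]
      ring
    · rw [mem_others, not_and] at hfam
      have hfam' := hfam hw
      push Not at hfam'
      obtain ⟨a', ha', rfl⟩ := hfam'
      rw [hT.fam.vals a' ha', hT.fam.vals a' ha', if_neg (zero_div_notMem D.A a')]
      by_cases hin : (1 : ZMod 19) / a' ∈ rts 19 3
      · exact absurd (by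
          rw [(hT.fam.eq_iff a' 1 ha' one_ne_zero).2 hin, hT.coef 1 1 1 one_ne_zero one_ne_zero one_ne_zero, c0,
            Nat.cast_zero]) hz
      · rw [if_neg hin]; ring

/-- The slot inequalities. -/
theorem Top.slot (hh : Gen x 3 h a₀) (hT : Top D h (w₁ * w₂) F₁ F₂ F n nw) (h₁ : Zero D h w₁ F₁)
    (h₂ : Zero D h w₂ F₂) {c : ZMod 19} (hc : c = 1 ∨ c = -1) (S : Finset (IrrCharacter G))
    (hS : S ⊆ others F (w₁ * w₂)) (m : IrrCharacter G → ℕ) (v : IrrCharacter G → ZMod 3 → ℕ)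
    (hm : ∀ χ ∈ S, classInner (pf F₁ F₂ 1 c) (χ : G → ℂ) = m χ)
    (hv : ∀ χ ∈ S, ∀ u, wt x h 19 (χ : G → ℂ) u = v χ u) (u : ZMod 3) :
    (if c = 1 then 3 else 2) * nw u + ∑ χ ∈ S, m χ * v χ u ≤
      (if c = 1 then 4 else 5) + (if u = 0 then 1 else 0) := by
  obtain ⟨-, -, -, cs1, cs2, -, -⟩ := cc_values
  have hc0 : c ≠ 0 := by rcases hc with rfl | rfl <;> decide
  have h1 := hT.fam.slot hh (isCharacter_pf (F₁ := F₁) (F₂ := F₂) 1 c) u (fun z => cc 19 3 1 c z)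
    (fun z hz => hT.coef 1 c z one_ne_zero hc0 hz) (hT.hnw u) (pf_wt h₁ h₂ one_ne_zero hc0 u) S m
    (fun χ => v χ u) (fun χ hχ => (mem_others.1 (hS hχ)).2) hm (fun χ hχ => hv χ hχ u)
  have hi1 : (if -(-1 : ZMod 19) / 1 ∈ rts 19 3 then 1 else 0 : ℕ) = 1 := by
    rw [if_pos (by rw [neg_neg, div_one]; exact one_mem_rts)]
  have hi0 : (if -(1 : ZMod 19) / 1 ∈ rts 19 3 then 1 else 0 : ℕ) = 0 := by
    rw [if_neg (by rw [div_one]; exact neg_one_notMem)]
  have hne : (-1 : ZMod 19) ≠ 1 := by decide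
  rcases hc with rfl | rfl
  · rw [cs1, hi0] at h1
    rw [if_pos rfl, if_pos rfl]
    omega
  · rw [cs2, hi1] at h1
    rw [if_neg hne, if_neg hne]
    omega

end CfsgLib.LinearSmall.Nineteen
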