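import Cfsg.Agent.Lib.LinearSmall.Nineteen.Tri
import Cfsg.Agent.Lib.SmallRep.Complex
import Cfsg.Agent.Lib.Pyramidal.DetInvol
import Cfsg.Agent.Lib.TwoCompFour.Quat

/-!
# Elements whose square is central
-/

namespace CfsgLib.LinearSmall.Nineteen

open Cfsg CfsgLib.Blocks CfsgLib.Blocks.DefectOne CfsgLib.CharTheory CfsgLib.CharTheory.SmallDegree
open CfsgLib.SmallSylow CfsgLib.FeitSmall Finset
open scoped ComplexConjugate commutatorElement

set_option linter.unusedVariables false
set_option linter.style.haveILetI false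
set_option linter.unusedSectionVars false

universe u

variable {G : Type u} [Group G] [Fintype G] {P : Sylow 19 G} {x h : G} {D : Data P x 3 6}

theorem center_free (hH : Compl (P : Subgroup G) (Subgroup.center G)) (D : Data P x 3 6) :
    ¬ 19 ∣ Nat.card (Subgroup.center G) := fun hd => by
  obtain ⟨y, hy⟩ := exists_prime_orderOf_dvd_card' 19 hd
  have h1 := center_pow_p hH D (z := y) (by rw [← hy, ← Subgroup.orderOf_coe, pow_orderOf_eq_one])
  rw [h1, orderOf_one] at hy
  exact absurd hy (by norm_num)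

/-- A scalar element is central. -/
theorem central_of_scalar (hG : commutator G = ⊤) (hH : Compl (P : Subgroup G) (Subgroup.center G))
    (D : Data P x 3 6) (ζ : IrrCharacter G)
    (hfaith : ∀ g : G, (ζ : G → ℂ) g = (ζ : G → ℂ) 1 → g = 1) (hdeg : charDegree (ζ : G → ℂ) + 1 < 19)
    {d : ℕ} (R : Representation ℂ G (Fin d → ℂ)) (hRx : R x ≠ 1) {g : G} {c : ℂ}
    (hg : R g = c • LinearMap.id) : g ∈ Subgroup.center G := by
  classical
  obtain ⟨R0, hR0, -, -⟩ := exists_rep ζ hfaith
  set K : Subgroup G := MonoidHom.ker (MonoidHom.toHomUnits R) with hK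
  have hKmem : ∀ y, y ∈ K ↔ R y = 1 := fun y => by
    rw [hK, MonoidHom.mem_ker, ← Units.val_inj]; rfl
  have hKp : ¬ 19 ∣ Nat.card K := fun hd => by
    obtain ⟨y, hy⟩ := exists_prime_orderOf_dvd_card' 19 hd
    have hyG : orderOf (y : G) = 19 := by rw [Subgroup.orderOf_coe, hy]
    obtain ⟨Q, hQ⟩ := (IsPGroup.of_card (n := 1) (by rw [Nat.card_zpowers, hyG, pow_one]) :
      IsPGroup 19 (Subgroup.zpowers (y : G))).exists_le_sylow
    obtain ⟨a, ha⟩ := MulAction.exists_smul_eq G Q P
    have h1 : a * (y : G) * a⁻¹ ∈ (P : Subgroup G) := by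
      rw [← ha, Sylow.coe_subgroup_smul]
      exact Subgroup.smul_mem_pointwise_smul (y : G) (MulAut.conj a) _ (hQ (Subgroup.mem_zpowers _))
    have h2 : a * (y : G) * a⁻¹ ≠ 1 := fun h0 => by
      rw [conj_eq_one_iff] at h0
      rw [h0, orderOf_one] at hyG
      norm_num at hyG
    refine hRx ((hKmem x).1 ?_)
    have hle : (P : Subgroup G) ≤ K := by
      rw [← (CfsgLib.Blocks.DefectOne.zpowers_eq D.setup D.hP h1 h2).1, Subgroup.zpowers_le]
      exact (MonoidHom.normal_ker _).conj_mem _ y.2 a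
    exact hle D.mem
  have hKZ : ∀ k ∈ K, k ∈ Subgroup.center G := by
    intro k hk
    have hc := CfsgLib.SmallRep.commute_of_small (R := R0) (p := 19) hR0 D.pow hdeg _ K rfl hKp
      (fun y hy => (MonoidHom.normal_ker _).conj_mem y hy x) k hk
    obtain ⟨q, hq, z, hz, hqz⟩ := hH.prod k (D.setup.free D.mem D.ne (g := k) (by
      rw [← hc, mul_inv_cancel_right]))
    have hzc : Commute q z := Subgroup.mem_center_iff.1 hz q
    have h1 : (q * z) ^ Nat.card K = 1 := by
      rw [← hqz]; exact congrArg Subtype.val (pow_card_eq_one' (x := (⟨k, hk⟩ : K)))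
    rw [hzc.mul_pow] at h1
    have h2 : q ^ Nat.card K ∈ (P : Subgroup G) ⊓ Subgroup.center G := by
      refine Subgroup.mem_inf.2 ⟨pow_mem hq _, ?_⟩
      rw [eq_inv_of_mul_eq_one_left h1]
      exact inv_mem (pow_mem hz _)
    rw [hH.inf, Subgroup.mem_bot] at h2
    have h3 : q = 1 := by
      rw [← orderOf_eq_one_iff]
      exact Nat.eq_one_of_dvd_coprimes (((Fact.out : Nat.Prime 19).coprime_iff_not_dvd.2 hKp))
        (orderOf_dvd_of_pow_eq_one (pow_card_of_mem D.hP hq)) (orderOf_dvd_of_pow_eq_one h2)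
    rw [hqz, h3, one_mul]; exact hz
  have hcen : ∀ k : G, ⁅k, g⁆ ∈ Subgroup.center G := fun k => hKZ _ ((hKmem _).2 (by
    rw [commutatorElement_def, map_mul, map_mul, map_mul, mul_assoc (R k) (R g) (R k⁻¹),
      show R g * R k⁻¹ = R k⁻¹ * R g by
        rw [hg, ← Module.End.one_eq_id, smul_mul_assoc, one_mul, mul_smul_comm, mul_one],
      ← mul_assoc, ← map_mul, mul_inv_cancel, map_one, one_mul, ← map_mul, mul_inv_cancel, map_one]))
  let φ : G →* Subgroup.center G :=
    { toFun := fun k => ⟨⁅k, g⁆, hcen k⟩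
      map_one' := Subtype.ext (by simp [commutatorElement_def])
      map_mul' := fun a b => Subtype.ext (by
        show ⁅a * b, g⁆ = ⁅a, g⁆ * ⁅b, g⁆
        have h1 : ⁅a * b, g⁆ = a * ⁅b, g⁆ * a⁻¹ * ⁅a, g⁆ := by simp only [commutatorElement_def]; group
        rw [h1, Subgroup.mem_center_iff.1 (hcen b) a, mul_inv_cancel_right,
          Subgroup.mem_center_iff.1 (hcen a) ⁅b, g⁆]) }
  have htriv : φ.ker = ⊤ := by
    rw [eq_top_iff, ← hG, commutator_def, Subgroup.commutator_le]
    intro a _ b _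
    rw [MonoidHom.mem_ker, map_commutatorElement, commutatorElement_eq_one_iff_mul_comm]
    exact Subtype.ext (Subgroup.mem_center_iff.1 (φ b).2 (φ a))
  rw [Subgroup.mem_center_iff]
  intro k
  have h1 : φ k = 1 := MonoidHom.mem_ker.1 (htriv ▸ Subgroup.mem_top k)
  exact commutatorElement_eq_one_iff_mul_comm.1 (congrArg Subtype.val h1)

/-- The value on an element acting as an involution with determinant one. -/
theorem value_invol (hG : commutator G = ⊤) (hH : Compl (P : Subgroup G) (Subgroup.center G))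
    (D : Data P x 3 6) (ζ : IrrCharacter G)
    (hfaith : ∀ g : G, (ζ : G → ℂ) g = (ζ : G → ℂ) 1 → g = 1) (hdeg : charDegree (ζ : G → ℂ) + 1 < 19)
    {χ : IrrCharacter G} (hχ : (χ : G → ℂ) x ≠ (χ : G → ℂ) 1) {W : Subgroup.center G →* ℂ}
    (hW : HasCen (χ : G → ℂ) W) {g : G} (hg : g ∉ Subgroup.center G) (hg2 : g * g ∈ Subgroup.center G)
    (hW2 : W ⟨g * g, hg2⟩ = 1) {N : ℤ} (hN : (χ : G → ℂ) 1 = N) :
    ∃ r : ℤ, (χ : G → ℂ) g = r ∧ -N < r ∧ r < N ∧ (N - r) % 4 = 0 := by
  classical
  obtain ⟨d, R, hR, hRχ⟩ := χ.2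
  have hd : (d : ℂ) = (χ : G → ℂ) 1 := by rw [← hRχ, R.char_one, Module.finrank_fin_fun]
  have hdN : (d : ℤ) = N := by exact_mod_cast hd.trans hN
  have hd0 : d ≠ 0 := fun h0 => irr_one_ne_zero χ (by rw [← hd, h0, Nat.cast_zero])
  have hRx : R x ≠ 1 := fun h0 => hχ (by
    rw [← hRχ]; show LinearMap.trace ℂ _ (R x) = LinearMap.trace ℂ _ (R 1); rw [h0, map_one R])
  haveI := hR
  obtain ⟨c, hc⟩ := exists_scalar_of_mem_center R hg2
  have hcW : c = 1 := by
    have h1 : (χ : G → ℂ) (g * g) = (χ : G → ℂ) 1 := by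
      rw [cen_one hW ⟨g * g, hg2⟩, hW2, one_mul]
    rw [← hRχ, Representation.character, Representation.character, hc, map_one R, map_smul,
      LinearMap.trace_id, LinearMap.trace_one, smul_eq_mul, Module.finrank_fin_fun] at h1
    exact mul_right_cancel₀ (Nat.cast_ne_zero.2 hd0) (h1.trans (one_mul _).symm)
  set E : Module.End ℂ (Fin d → ℂ) := R g with hE
  have hinv : ∀ v, E (E v) = v := fun v => by
    rw [hE, ← Module.End.mul_apply, ← map_mul, hc, hcW, one_smul]; rfl
  set U := LinearMap.ker (E + LinearMap.id) with hU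
  set k := Module.finrank ℂ U with hk
  have hdet := CfsgLib.Pyramidal.det_involution (two_ne_zero (α := ℂ)) E hinv
  rw [hE, det_eq_one_of_perfect hG R g] at hdet
  have hkev : Even k := by
    by_contra hodd
    rw [(Nat.not_even_iff_odd.mp hodd).neg_one_pow] at hdet
    norm_num at hdet
  set Pm : Module.End ℂ (Fin d → ℂ) := (2 : ℂ)⁻¹ • (1 - E) with hPm
  have hproj : LinearMap.IsProj U Pm := by
    refine ⟨fun v => ?_, fun v hv => ?_⟩
    · rw [hU, LinearMap.mem_ker, hPm, LinearMap.add_apply, LinearMap.id_apply, LinearMap.smul_apply,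
        map_smul, LinearMap.sub_apply, Module.End.one_apply, map_sub, hinv]
      module
    · rw [hU, LinearMap.mem_ker, LinearMap.add_apply, LinearMap.id_apply, add_eq_zero_iff_eq_neg] at hv
      rw [hPm, LinearMap.smul_apply, LinearMap.sub_apply, Module.End.one_apply, hv]
      module
  have htr : (χ : G → ℂ) g = (d : ℂ) - 2 * k := by
    have h1 := hproj.trace
    rw [hPm, map_smul, map_sub, LinearMap.trace_one, Module.finrank_fin_fun, smul_eq_mul, ← hk] at h1
    rw [← hRχ]
    show LinearMap.trace ℂ _ E = _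
    linear_combination (-2 : ℂ) * h1
  have hkle : k ≤ d := by
    have := Submodule.finrank_le U
    rwa [Module.finrank_fin_fun] at this
  have hk0 : k ≠ 0 := fun h0 => hg (central_of_scalar hG hH D ζ hfaith hdeg R hRx (c := 1) (by
    rw [one_smul]
    refine LinearMap.ext fun v => ?_
    have hb : U = ⊥ := Submodule.finrank_eq_zero.1 h0
    have h1 : Pm v ∈ U := hproj.map_mem v
    rw [hb, Submodule.mem_bot, hPm, LinearMap.smul_apply, smul_eq_zero, LinearMap.sub_apply,
      sub_eq_zero] at h1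
    exact (h1.resolve_left (inv_ne_zero two_ne_zero)).symm))
  have hkd : k ≠ d := fun h0 => hg (central_of_scalar hG hH D ζ hfaith hdeg R hRx (c := -1) (by
    have hb : U = ⊤ := Submodule.eq_top_of_finrank_eq (by rw [Module.finrank_fin_fun]; exact h0)
    refine LinearMap.ext fun v => ?_
    have h1 : v ∈ U := hb ▸ Submodule.mem_top
    rw [hU, LinearMap.mem_ker, LinearMap.add_apply, LinearMap.id_apply, add_eq_zero_iff_eq_neg] at h1
    rw [LinearMap.smul_apply, LinearMap.id_apply, neg_one_smul]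
    exact h1))
  refine ⟨(d : ℤ) - 2 * k, by rw [htr]; push_cast; ring, by omega, by omega, ?_⟩
  obtain ⟨i, hi⟩ := hkev
  omega

/-- A noncentral element with central square. -/
theorem exists_square_central (hG : commutator G = ⊤) (hev : 2 ∣ Nat.card (Subgroup.center G)) :
    ∃ g : G, g ∉ Subgroup.center G ∧ g * g ∈ Subgroup.center G := by
  classical
  obtain ⟨S⟩ := (inferInstance : Nonempty (Sylow 2 G))
  by_cases hS : (S : Subgroup G) ≤ Subgroup.center G
  · exfalso
    have hNC : Subgroup.normalizer ((S : Subgroup G) : Set G) ≤ Subgroup.centralizer ((S : Subgroup G) : Set G) :=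
      fun g _ => Subgroup.mem_centralizer_iff.2 fun y hy => (Subgroup.mem_center_iff.1 (hS hy) g).symm
    have hcomp := MonoidHom.ker_transferSylow_isComplement' S hNC
    have hker : commutator G ≤ (MonoidHom.transferSylow S hNC).ker := by
      rw [commutator_def, Subgroup.commutator_le]
      intro a _ b _
      rw [MonoidHom.mem_ker, map_commutatorElement, commutatorElement_eq_one_iff_mul_comm]
      refine Subtype.ext ?_
      exact Subgroup.mem_center_iff.1 (hS (MonoidHom.transferSylow S hNC b).2) _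
    rw [hG, top_le_iff] at hker
    rw [hker, Subgroup.isComplement'_top_left] at hcomp
    have h2 : 2 ∣ Nat.card (S : Subgroup G) :=
      S.dvd_card_of_dvd_card (hev.trans (Subgroup.card_subgroup_dvd_card _))
    rw [hcomp, Subgroup.card_bot] at h2
    norm_num at h2
  · obtain ⟨g, hgS, hg⟩ := SetLike.not_le_iff_exists.1 hS
    obtain ⟨k, hk⟩ := S.2 ⟨g, hgS⟩
    have hk' : g ^ 2 ^ k = 1 := congrArg Subtype.val hk
    clear hk hgS hS
    induction k generalizing g with
    | zero => exact absurd (by rw [pow_zero, pow_one] at hk'; rw [hk']; exact one_mem _) hg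
    | succ k ih =>
      by_cases h2 : g * g ∈ Subgroup.center G
      · exact ⟨g, hg, h2⟩
      · exact ih (g * g) h2 (by rw [← pow_two, ← pow_mul, ← pow_succ']; exact hk')

/-- With a centre of order divisible by four there is a noncentral involution. -/
theorem exists_invol (hG : commutator G = ⊤) (ζ : IrrCharacter G)
    (hfaith : ∀ g : G, (ζ : G → ℂ) g = (ζ : G → ℂ) 1 → g = 1) {k : ℕ}
    (hk : Nat.card (Subgroup.center G) = 2 ^ k) (hk2 : 2 ≤ k) :
    ∃ g : G, g ∉ Subgroup.center G ∧ g * g = 1 := by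
  classical
  by_contra hno
  push Not at hno
  obtain ⟨w, hw⟩ := exists_hasCen ζ
  have hwinj : Function.Injective w := by
    intro a b hab
    have h1 : w (a * b⁻¹) = 1 := by
      rw [map_mul, hab, ← map_mul, mul_inv_cancel, map_one]
    have h2 : ((a * b⁻¹ : Subgroup.center G) : G) = 1 := hfaith _ (by
      rw [cen_one hw, h1, one_mul])
    exact mul_inv_eq_one.1 (Subtype.ext h2)
  haveI : IsCyclic (Subgroup.center G) :=
    isCyclic_of_subgroup_isDomain w hwinj
  obtain ⟨i, hi⟩ := IsCyclic.exists_ofOrder_eq_natCard (α := Subgroup.center G)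
  obtain ⟨S⟩ := (inferInstance : Nonempty (Sylow 2 G))
  have hZ2 : IsPGroup 2 (Subgroup.center G) := IsPGroup.of_card hk
  have hZS : Subgroup.center G ≤ (S : Subgroup G) := by
    obtain ⟨T, hT⟩ := hZ2.exists_le_sylow
    obtain ⟨a, ha⟩ := MulAction.exists_smul_eq G T S
    intro z hz
    rw [← ha, Sylow.coe_subgroup_smul]
    have h1 := Subgroup.smul_mem_pointwise_smul z (MulAut.conj a) _ (hT hz)
    rwa [MulAut.smul_def, MulAut.conj_apply, Subgroup.mem_center_iff.1 hz a, mul_inv_cancel_right] at h1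
  have hiS : (i : G) ∈ (S : Subgroup G) := hZS i.2
  set z0 : G := (i : G) ^ 2 ^ (k - 1) with hz0
  have hio : orderOf (i : G) = 2 ^ k := by rw [Subgroup.orderOf_coe, hi, hk]
  have hz0o : orderOf z0 = 2 := by
    rw [hz0, orderOf_pow_of_dvd (by positivity) (by rw [hio]; exact pow_dvd_pow 2 (by omega)), hio,
      Nat.pow_div (by omega) (by norm_num), show k - (k - 1) = 1 by omega, pow_one]
  set i4 : G := (i : G) ^ 2 ^ (k - 2) with hi4
  have hi4o : orderOf i4 = 4 := by
    rw [hi4, orderOf_pow_of_dvd (by positivity) (by rw [hio]; exact pow_dvd_pow 2 (by omega)), hio,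
      Nat.pow_div (by omega) (by norm_num), show k - (k - 2) = 2 by omega]
  have huniq : ∀ y ∈ (S : Subgroup G), orderOf y = 2 → y = z0 := by
    intro y hy hyo
    have hy2 : y * y = 1 := by rw [← pow_two, ← hyo, pow_orderOf_eq_one]
    have hyZ : y ∈ Subgroup.center G := by
      by_contra h0
      exact hno y h0 hy2
    have hzp : (⟨y, hyZ⟩ : Subgroup.center G) ∈ Subgroup.zpowers i := by
      have htop : Subgroup.zpowers i = ⊤ := Subgroup.eq_top_of_card_eq _ (by rw [Nat.card_zpowers, hi])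
      rw [htop]; exact Subgroup.mem_top _
    obtain ⟨m, hm⟩ := mem_powers_iff_mem_zpowers.2 hzp
    have hm' : (i : G) ^ m = y := congrArg Subtype.val hm
    have h1 : (i : G) ^ (2 * m) = 1 := by rw [mul_comm, pow_mul, hm', pow_two, hy2]
    have h2 : 2 ^ k ∣ 2 * m := hio ▸ orderOf_dvd_of_pow_eq_one h1
    obtain ⟨j, hj⟩ : 2 ^ (k - 1) ∣ m := by
      refine (Nat.mul_dvd_mul_iff_left (show 0 < 2 by norm_num)).1 ?_
      rwa [← pow_succ', show k - 1 + 1 = k by omega]
    rw [← hm', hj, pow_mul, ← hz0]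
    rcases Nat.even_or_odd j with ⟨r, hr⟩ | ⟨r, hr⟩
    · exfalso
      rw [← hm', hj, pow_mul, ← hz0, hr, ← two_mul, pow_mul, show z0 ^ 2 = 1 by
        rw [← hz0o, pow_orderOf_eq_one], one_pow, orderOf_one] at hyo
      norm_num at hyo
    · rw [hr, pow_succ, pow_mul, show z0 ^ 2 = 1 by rw [← hz0o, pow_orderOf_eq_one], one_pow, one_mul]
  haveI : IsCyclic (S : Subgroup G) := CfsgLib.TwoCompFour.isCyclic_of_central_four S.2
    (z := ⟨z0, pow_mem hiS _⟩)
    ⟨by rw [Subgroup.orderOf_mk, hz0o], fun y hy => Subtype.ext (huniq y y.2 (by rwa [Subgroup.orderOf_coe]))⟩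
    (i := ⟨i4, pow_mem hiS _⟩) (by rw [Subgroup.orderOf_mk, hi4o])
    fun y => Subtype.ext (Subgroup.mem_center_iff.1 (pow_mem i.2 _) y)
  have hmin : (Nat.card G).minFac = 2 := by
    rw [Nat.minFac_eq_two_iff]
    exact ((hk ▸ dvd_pow_self 2 (by omega) : 2 ∣ Nat.card (Subgroup.center G))).trans
      (Subgroup.card_subgroup_dvd_card _)
  have hNC : Subgroup.normalizer ((S : Subgroup G) : Set G) ≤ Subgroup.centralizer ((S : Subgroup G) : Set G) :=
    IsCyclic.normalizer_le_centralizer (P := S) hmin inferInstance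
  have hcomp := MonoidHom.ker_transferSylow_isComplement' S hNC
  have hker : commutator G ≤ (MonoidHom.transferSylow S hNC).ker := by
    rw [commutator_def, Subgroup.commutator_le]
    intro a _ b _
    rw [MonoidHom.mem_ker, map_commutatorElement, commutatorElement_eq_one_iff_mul_comm]
    letI := IsCyclic.commGroup (α := (S : Subgroup G))
    exact mul_comm _ _
  rw [hG, top_le_iff] at hker
  rw [hker, Subgroup.isComplement'_top_left] at hcomp
  have h1 : Nat.card (S : Subgroup G) = 1 := by rw [hcomp, Subgroup.card_bot]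
  have h2 := orderOf_dvd_natCard (⟨z0, pow_mem hiS _⟩ : (S : Subgroup G))
  rw [h1, Subgroup.orderOf_mk, hz0o] at h2
  norm_num at h2

end CfsgLib.LinearSmall.Nineteen
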