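import Cfsg.Agent.Lib.LinearSmall.Nineteen.Square
import Cfsg.Agent.Lib.FeitSmall.Main

/-!
# Degree sixteen and the prime nineteen
-/

namespace CfsgLib.LinearSmall.Nineteen

open Cfsg CfsgLib.Blocks CfsgLib.Blocks.DefectOne CfsgLib.CharTheory CfsgLib.CharTheory.SmallDegree
open CfsgLib.SmallSylow CfsgLib.FeitSmall Finset
open scoped ComplexConjugate

set_option linter.unusedVariables false
set_option linter.style.haveILetI false
set_option linter.unusedSectionVars false

universe u

theorem aux : ∀ (n : ℕ) (G : Type u) [Group G] [Fintype G], Nat.card G = n →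
    ∀ (P : Sylow 19 G), Nat.card P = 19 → ¬ (P : Subgroup G).Normal → ∀ ζ : IrrCharacter G,
      (∀ g : G, (ζ : G → ℂ) g = (ζ : G → ℂ) 1 → g = 1) → charDegree (ζ : G → ℂ) = 16 → False := by
  intro n
  induction n using Nat.strong_induction_on with
  | _ n IH =>
  intro G _ _ hn P hP hnn ζ hfaith hdeg
  classical
  obtain ⟨x, e, t, D⟩ := exists_data P hP
  letI : Fintype (P : Subgroup G) := Fintype.ofFinite _
  letI : Fintype (cen (P : Subgroup G)) := Fintype.ofFinite _
  letI : Fintype (Subgroup.center G) := Fintype.ofFinite _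
  obtain ⟨M, hM⟩ := exists_isPModular (Fact.out : Nat.Prime 19)
  rcases structure_cases D hM ζ hfaith (by omega) (D.inf_center hnn) with
    ⟨a, ha, hA⟩ | ⟨ht, hH, a, ha, hS⟩
  · have := (caseA_degree D (by norm_num) ζ hfaith (by omega) hnn ha hA).2
    omega
  have hde := hS.degree D.A ha
  obtain rfl : e = 3 := by omega
  obtain rfl : t = 6 := by have := D.A.mul; omega
  by_cases hG : commutator G = ⊤
  · have hev : 2 ∣ Nat.card (Subgroup.center G) := by
      rcases perfect_caseB D hG (by norm_num) (by norm_num) (by norm_num) ζ hfaith hH ha hS with h | ⟨-, -, h⟩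
      · omega
      · exact even_iff_two_dvd.1 (Nat.not_odd_iff_even.1 h)
    have hZd := card_center_dvd hG ζ hfaith
    rw [hdeg] at hZd
    obtain ⟨h, a₀, hh⟩ := exists_gen D hH ((show Nat.Coprime 3 19 by norm_num).mul_right
      ((show Nat.Coprime 3 16 by norm_num).coprime_dvd_right hZd))
    obtain ⟨w, hw⟩ := exists_hasCen ζ
    obtain ⟨F, n', ε, hF⟩ := exists_fam D hM hH w
    obtain ⟨rfl, rfl, b, hb, hζb⟩ := fam_of_shape (by norm_num) hw ha hS hF
    obtain ⟨α, hα⟩ := hF.exists_weight hh
    have hα2 := weight_two D hG (by norm_num) hh hF (hα 1 one_ne_zero).2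
    obtain rfl : α = 0 := (show ∀ β : ZMod 3, β + β = 0 → β = 0 by decide) α hα2
    exact base_false hM (D := D) (h := h) (a₀ := a₀) (ζ := ζ) (w := w) (F := F)
      ⟨hG, hH, hh, hfaith, hdeg, hw, ⟨hF, fun a ha => (hα a ha).1, fun a ha => (hα a ha).2⟩, hev⟩
  · set L := commutator G with hL
    letI : Fintype L := Fintype.ofFinite _
    have hPL : (P : Subgroup G) ≤ L := D.le_commutator (by norm_num)
    obtain ⟨hirr, hnnL⟩ := restrict_irreducible D ζ hfaith hnn (by omega) (by omega) L hPL
    set P' : Sylow 19 L := P.subtype hPL with hP'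
    have hP'c : (P' : Subgroup L) = (P : Subgroup G).subgroupOf L := rfl
    have hcard : Nat.card P' = 19 := by
      show Nat.card (P' : Subgroup L) = 19
      rw [hP'c, Nat.card_congr (Subgroup.subgroupOfEquivOfLe hPL).toEquiv]
      exact D.hP
    rw [← hP'c] at hnnL
    let ζ' : IrrCharacter L := ⟨fun g : L => (ζ : G → ℂ) g, hirr⟩
    have hdeg' : charDegree (ζ' : L → ℂ) = 16 := by
      rw [← hdeg]
      apply Nat.cast_injective (R := ℂ)
      rw [irr_charDegree_cast, irr_charDegree_cast]
      rfl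
    refine IH _ ?_ L rfl P' hcard hnnL ζ' (fun g hg => Subtype.ext (hfaith g hg)) hdeg'
    rw [← hn]
    rcases (Subgroup.card_le_card_group L).lt_or_eq with h | h
    · exact h
    · exact absurd (Subgroup.eq_top_of_card_eq L h) hG

/-- No group has a faithful irreducible character of degree `16` and a nonnormal Sylow subgroup of order `19`. -/
theorem degree_ne_sixteen {G : Type u} [Group G] [Fintype G] (P : Sylow 19 G) (hP : Nat.card P = 19)
    (hnn : ¬ (P : Subgroup G).Normal) (ζ : IrrCharacter G)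
    (hfaith : ∀ g : G, (ζ : G → ℂ) g = (ζ : G → ℂ) 1 → g = 1) : charDegree (ζ : G → ℂ) ≠ 16 :=
  fun hd => aux _ G rfl P hP hnn ζ hfaith hd

end CfsgLib.LinearSmall.Nineteen
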