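import Cfsg.Agent.Lib.LinearSmall.Nineteen.TwoCentre

/-!
# Degrees and norms over the square of the central character
-/

namespace CfsgLib.LinearSmall.Nineteen

open Cfsg CfsgLib.Blocks CfsgLib.Blocks.DefectOne CfsgLib.CharTheory CfsgLib.CharTheory.SmallDegree
open CfsgLib.SmallSylow CfsgLib.FeitSmall Finset
open scoped ComplexConjugate

set_option linter.unusedVariables false
set_option linter.style.haveILetI false
set_option linter.unusedSectionVars false
set_option maxHeartbeats 1000000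

universe u

variable {G : Type u} [Group G] [Fintype G] {P : Sylow 19 G} {x h : G} {D : Data P x 3 6} {a₀ : ZMod 19}
  {ζ : IrrCharacter G} {w : Subgroup.center G →* ℂ} {F : ZMod 19 → IrrCharacter G}

theorem Base.center_two_pow (hb : Base D h a₀ ζ w F) : ∃ k, Nat.card (Subgroup.center G) = 2 ^ k := by
  have h1 := card_center_dvd hb.perfect ζ hb.faith
  rw [hb.deg, show 16 = 2 ^ 4 from rfl, Nat.dvd_prime_pow Nat.prime_two] at h1
  obtain ⟨k, -, hk⟩ := h1
  exact ⟨k, hk⟩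

theorem Base.center_large (hb : Base D h a₀ ζ w F) (hw : w * w ≠ 1) {k : ℕ}
    (hk : Nat.card (Subgroup.center G) = 2 ^ k) : 2 ≤ k := by
  by_contra hlt
  refine hw (MonoidHom.ext fun z => ?_)
  have h1 : z ^ 2 = 1 := by
    have h2 : z ^ Nat.card (Subgroup.center G) = 1 := pow_card_eq_one'
    rcases (show k = 0 ∨ k = 1 by omega) with rfl | rfl
    · rw [hk, pow_zero, pow_one] at h2; rw [h2, one_pow]
    · rw [hk, pow_one] at h2; exact h2
  show w z * w z = 1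
  rw [← map_mul, ← pow_two, h1, map_one]

/-- The degrees are even. -/
theorem even_degree (hb : Base D h a₀ ζ w F) (hw : w * w ≠ 1) {χ : IrrCharacter G}
    (hχ : HasCen (χ : G → ℂ) (w * w)) {N : ℤ} (hN : (χ : G → ℂ) 1 = N) : N % 2 = 0 := by
  classical
  obtain ⟨k, hk⟩ := hb.center_two_pow
  obtain ⟨z, hz⟩ : ∃ z, (w * w) z ≠ 1 := by
    by_contra hno
    push Not at hno
    exact hw (MonoidHom.ext hno)
  obtain ⟨d, R, hR, hRχ⟩ := χ.2
  have hd : (d : ℂ) = (χ : G → ℂ) 1 := by rw [← hRχ, R.char_one, Module.finrank_fin_fun]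
  have hdN : (d : ℤ) = N := by exact_mod_cast hd.trans hN
  have hd0 : d ≠ 0 := fun h0 => irr_one_ne_zero χ (by rw [← hd, h0, Nat.cast_zero])
  haveI := hR
  obtain ⟨c, hc⟩ := exists_scalar_of_mem_center R z.2
  have hcz : c = (w * w) z := by
    have h1 := cen_one hχ z
    rw [← hRχ, Representation.character, Representation.character, hc, map_one R, map_smul,
      LinearMap.trace_id, LinearMap.trace_one, smul_eq_mul, Module.finrank_fin_fun] at h1
    exact mul_right_cancel₀ (Nat.cast_ne_zero.2 hd0) h1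
  have hcd : c ^ d = 1 := by
    have h1 := det_eq_one_of_perfect hb.perfect R (z : G)
    rwa [hc, LinearMap.det_smul, LinearMap.det_id, mul_one, Module.finrank_fin_fun] at h1
  have hck : c ^ (2 ^ k) = 1 := by rw [hcz, ← map_pow, ← hk, pow_card_eq_one', map_one]
  by_contra hodd
  have hco : Nat.Coprime d (2 ^ k) := Nat.Coprime.pow_right _ (Nat.coprime_two_right.2 (Nat.odd_iff.2 (by omega)))
  have h7 := pow_gcd_eq_one.2 ⟨hcd, hck⟩
  rw [hco, pow_one] at h7
  exact hz (hcz ▸ h7)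

theorem Base.M_odd (hb : Base D h a₀ ζ w F) (hw : w * w ≠ 1) {χ : IrrCharacter G} {σ : ℤ} {M : ℕ}
    {v : ZMod 3 → ℕ} (hs : Sh x h χ σ M v) (hσ : σ = 1 ∨ σ = -1) (hχ : HasCen (χ : G → ℂ) (w * w)) :
    M % 2 = 1 := by
  have h1 := even_degree hb hw hχ (N := 19 * (M : ℤ) + σ) (by rw [hs.one]; push_cast; ring)
  omega

theorem sum_sq_coef {f : G → ℂ} (hf : IsCharacter G f) (k : IrrCharacter G → ℕ)
    (hk : ∀ χ : IrrCharacter G, classInner f (χ : G → ℂ) = k χ) :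
    classInner f f = ((∑ χ, k χ ^ 2 : ℕ) : ℂ) := by
  obtain ⟨c, -, hc, hsum⟩ := classInner_self_eq_sum_sq (isGenChar_of_char hf)
  rw [hsum, Nat.cast_sum, Int.cast_sum]
  refine Finset.sum_congr rfl fun χ _ => ?_
  rw [Int.cast_pow, ← hc, hk, Nat.cast_pow]

/-- The norm from above. -/
theorem norm_le [Fintype (P : Subgroup G)] {F0 : ZMod 19 → IrrCharacter G} {n : ℕ} {nw : ZMod 3 → ℕ}
    (hb : Base D h a₀ ζ w F) (hw : w * w ≠ 1) (hT : Top D h (w * w) F F F0 n nw) (hnw : ∀ u, nw u = 1)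
    {A B C : IrrCharacter G} {a b c : ℤ} {MA MB MC : ℕ} {vA vB vC : ZMod 3 → ℕ}
    (T : Tri D h (w * w) F0 A B C a b c MA MB MC vA vB vC) {mA mB mC : ℕ}
    (hA : classInner (pf F F 1 1) (A : G → ℂ) = mA) (hB : classInner (pf F F 1 1) (B : G → ℂ) = mB)
    (hC : classInner (pf F F 1 1) (C : G → ℂ) = mC)
    (h2 : 2 * mA ^ 2 ≤ mA * (vA 0 + vA 1 + vA 2) ∧ 2 * mB ^ 2 ≤ mB * (vB 0 + vB 1 + vB 2) ∧
      2 * mC ^ 2 ≤ mC * (vC 0 + vC 1 + vC 2)) :
    ∃ N : ℕ, classInner (pf F F 1 1) (pf F F 1 1) = N ∧ N ≤ 7 := by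
  classical
  choose k hk using fun χ : IrrCharacter G =>
    classInner_char_nat (isCharacter_pf (F₁ := F) (F₂ := F) 1 1) (isCharacter_of_irr χ.2)
  choose v hv using fun (χ : IrrCharacter G) (u : ZMod 3) => hb.hh.wt_nat D (isCharacter_of_irr χ.2) u
  refine ⟨_, sum_sq_coef (isCharacter_pf 1 1) k hk, ?_⟩
  set Im := (univ.erase (0 : ZMod 19)).image F0 with hIm
  obtain ⟨-, -, -, cs1, -, q1, -⟩ := cc_values
  have hfam : ∑ χ ∈ Im, k χ ^ 2 = 5 := by
    have h1 := sum_image hT.fam (fun χ => ((k χ ^ 2 : ℕ) : ℂ))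
    rw [← hIm, Finset.sum_congr (s₁ := univ.erase (0 : ZMod 19)) rfl fun z hz => show
      ((k (F0 z) ^ 2 : ℕ) : ℂ) = ((cc 19 3 1 1 z * cc 19 3 1 1 z : ℕ) : ℂ) by
        have h' := hT.coef 1 1 z one_ne_zero one_ne_zero (mem_erase.1 hz).1
        rw [hk] at h'
        rw [Nat.cast_inj.1 h', pow_two], ← Nat.cast_sum, ← Nat.cast_sum, ← Nat.cast_mul, q1] at h1
    have h3 := Nat.cast_inj.1 h1
    omega
  have hslot : ∀ u : ZMod 3, 3 + ∑ χ ∈ others F0 (w * w), k χ * v χ u ≤ 4 + (if u = 0 then 1 else 0) := by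
    intro u
    have h1 := hT.slot hb.hh hb.zero hb.zero (Or.inl rfl) (others F0 (w * w)) (Finset.Subset.refl _) k v
      (fun χ _ => hk χ) (fun χ _ => hv χ) u
    rwa [hnw, if_pos rfl, if_pos rfl, mul_one] at h1
  have hterm : ∀ χ ∈ others F0 (w * w), 2 * k χ ^ 2 ≤ k χ * (v χ 0 + v χ 1 + v χ 2) := by
    intro χ hχ
    by_cases h3 : χ = A ∨ χ = B ∨ χ = C
    · have aux : ∀ {χ : IrrCharacter G} {σ : ℤ} {M : ℕ} {v' : ZMod 3 → ℕ} {m : ℕ}, Sh x h χ σ M v' →
          classInner (pf F F 1 1) (χ : G → ℂ) = m → k χ = m ∧ v χ = v' := fun {χ σ M v' m} hs hm =>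
        ⟨Nat.cast_inj.1 ((hk χ).symm.trans hm), funext fun u => Nat.cast_inj.1 ((hv χ u).symm.trans (hs.wts u))⟩
      rcases h3 with rfl | rfl | rfl
      · obtain ⟨e1, e2⟩ := aux T.sA hA; rw [e1, e2]; exact h2.1
      · obtain ⟨e1, e2⟩ := aux T.sB hB; rw [e1, e2]; exact h2.2.1
      · obtain ⟨e1, e2⟩ := aux T.sC hC; rw [e1, e2]; exact h2.2.2
    push Not at h3
    rcases Nat.eq_zero_or_pos (k χ) with h0 | h0
    · rw [h0]; simp
    obtain ⟨σ, M, v', hs⟩ := exists_sh hb.hh hT.fam hχ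
    have hσ : σ = 0 := by exact_mod_cast hs.at_x.symm.trans (T.rest χ hχ h3.1 h3.2.1 h3.2.2)
    subst hσ
    have hd := even_degree hb hw (mem_others.1 hχ).1 (N := 19 * (M : ℤ)) (by rw [hs.one]; push_cast; ring)
    have hMp : M ≠ 0 := fun h0 => irr_one_ne_zero χ (by rw [hs.one, h0]; simp)
    have ev : v χ = v' := funext fun u => Nat.cast_inj.1 ((hv χ u).symm.trans (hs.wts u))
    have htot := hs.total
    have hone : ∀ u : ZMod 3, k χ * v χ u ≤ 1 + (if u = 0 then 1 else 0) := fun u => by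
      have h1 := hslot u
      have h4 := Finset.single_le_sum (f := fun χ => k χ * v χ u) (fun y _ => Nat.zero_le _) hχ
      omega
    have o0 := hone 0
    have o1 := hone 1
    have o2 := hone 2
    rw [if_pos rfl] at o0
    rw [if_neg (by decide)] at o1 o2
    rw [ev] at o0 o1 o2 ⊢
    have hk1 : k χ ≤ 1 := by
      by_contra hk2
      have l0 : 2 * v' 0 ≤ k χ * v' 0 := Nat.mul_le_mul_right _ (by omega)
      have l1 : 2 * v' 1 ≤ k χ * v' 1 := Nat.mul_le_mul_right _ (by omega)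
      have l2 : 2 * v' 2 ≤ k χ * v' 2 := Nat.mul_le_mul_right _ (by omega)
      omega
    rw [show k χ = 1 by omega]
    omega
  have hrest : ∑ χ ∈ univ \ Im, k χ ^ 2 = ∑ χ ∈ others F0 (w * w), k χ ^ 2 := by
    refine (Finset.sum_subset (fun χ hχ => mem_sdiff.2 ⟨mem_univ _, fun h' => ?_⟩) fun χ hχ hno => ?_).symm
    · obtain ⟨z, hz, rfl⟩ := mem_image.1 h'
      exact (mem_others.1 hχ).2 z (mem_erase.1 hz).1 rfl
    · by_contra h0
      refine hno (mem_others.2 ⟨((hb.zero.fam.cen 1 one_ne_zero).mul (hb.zero.fam.cen 1 one_ne_zero)).of_inner χ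
        (fun h' => h0 ?_), fun z hz e1 => (mem_sdiff.1 hχ).2 (mem_image.2 ⟨z, mem_erase.2 ⟨hz, mem_univ _⟩, e1.symm⟩)⟩)
      change classInner (pf F F 1 1) (χ : G → ℂ) = 0 at h'
      rw [hk, Nat.cast_eq_zero] at h'
      rw [h']; rfl
  rw [← Finset.sum_sdiff (subset_univ Im), hfam, hrest]
  have h5 : ∑ χ ∈ others F0 (w * w), 2 * k χ ^ 2 ≤
      ∑ χ ∈ others F0 (w * w), (k χ * v χ 0 + k χ * v χ 1 + k χ * v χ 2) :=
    Finset.sum_le_sum fun χ hχ => by rw [← Nat.mul_add, ← Nat.mul_add]; exact hterm χ hχ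
  rw [Finset.sum_add_distrib, Finset.sum_add_distrib, ← Finset.mul_sum] at h5
  have s0 := hslot 0
  have s1 := hslot 1
  have s2 := hslot 2
  rw [if_pos rfl] at s0
  rw [if_neg (by decide)] at s1 s2
  omega

/-- The norm from below. -/
theorem le_norm [Fintype (P : Subgroup G)] [Fintype (cen (P : Subgroup G))] [Fintype (Subgroup.center G)]
    {M : Ideal AlgInt} (hM : IsPModular 19 M) (hb : Base D h a₀ ζ w F) {N : ℕ}
    (hN : classInner (pf F F 1 1) (pf F F 1 1) = N) : 8 ≤ N := by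
  classical
  obtain ⟨F0, n, nw, A, B, vA, vB, hT, hn0, hn1, hn2, T, a0, a1, a2, b0, b1, b2, ho, hA, hB, hA2⟩ :=
    principal hM hb
  have hne1 : (-1 : ZMod 19) ≠ 0 := by decide
  set f := pf F (cj F) 1 (-1) with hf
  have heq : classInner f f = classInner (pf F F 1 1) (pf F F 1 1) := by
    simp only [classInner, hf, pf, cj, neg_neg]
    congr 1
    refine Finset.sum_congr rfl fun y _ => ?_
    simp only [map_mul, Complex.conj_conj]
    ring
  choose k hk using fun χ : IrrCharacter G =>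
    classInner_char_nat (isCharacter_pf (F₁ := F) (F₂ := cj F) 1 (-1)) (isCharacter_of_irr χ.2)
  choose v hv using fun (χ : IrrCharacter G) (u : ZMod 3) => hb.hh.wt_nat D (isCharacter_of_irr χ.2) u
  rw [← heq, sum_sq_coef (isCharacter_pf 1 (-1)) k hk] at hN
  rw [← Nat.cast_inj.1 hN]
  set Im := (univ.erase (0 : ZMod 19)).image F0 with hIm
  obtain ⟨-, -, -, -, cs2, -, q2⟩ := cc_values
  have hfam : ∑ χ ∈ Im, k χ ^ 2 = 2 := by
    have h1 := sum_image hT.fam (fun χ => ((k χ ^ 2 : ℕ) : ℂ))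
    rw [← hIm, Finset.sum_congr (s₁ := univ.erase (0 : ZMod 19)) rfl fun z hz => show
      ((k (F0 z) ^ 2 : ℕ) : ℂ) = ((cc 19 3 1 (-1) z * cc 19 3 1 (-1) z : ℕ) : ℂ) by
        have h' := hT.coef 1 (-1) z one_ne_zero hne1 (mem_erase.1 hz).1
        rw [← hf, hk] at h'
        rw [Nat.cast_inj.1 h', pow_two], ← Nat.cast_sum, ← Nat.cast_sum, ← Nat.cast_mul, q2] at h1
    have h3 := Nat.cast_inj.1 h1
    omega
  have hd1 : dia (1 : ZMod 19) (-1) = 1 := by rw [dia, if_pos (by rw [neg_neg, div_one]; exact one_mem_rts)]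
  have h2' : Zero D h ((starRingEnd ℂ).toMonoidHom.comp w) (cj F) := hb.zero.conj ⟨a₀, hb.hh⟩
  have hkone : k (oneC G) = 1 := by
    obtain ⟨m, hm⟩ := exists_coef hb.hh hb.zero h2' T.sA (mem_others.1 T.memA).1
    have hd0 : dia (1 : ZMod 19) 1 = 0 := by rw [dia, if_neg (by rw [div_one]; exact neg_one_notMem)]
    have hm0 := hm 1 1 one_ne_zero one_ne_zero
    rw [ho, hd0, Int.cast_zero, mul_zero, add_zero] at hm0
    have h1 := hm 1 (-1) one_ne_zero hne1
    rw [hd1, ← hm0, ← hf, hk] at h1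
    norm_num at h1
    exact_mod_cast h1
  have hkA : k A = 2 := Nat.cast_inj.1 ((hk A).symm.trans (by rw [hA2]; norm_num))
  have hex : ∃ χ ∈ univ \ Im, χ ≠ oneC G ∧ χ ≠ A ∧ 1 ≤ k χ := by
    by_contra hno
    push Not at hno
    have h1 := hT.fam.slot_eq hb.hh (isCharacter_pf (F₁ := F) (F₂ := cj F) 1 (-1)) (1 : ZMod 3)
      (fun z => cc 19 3 1 (-1) z) (fun z hz => hT.coef 1 (-1) z one_ne_zero hne1 hz) (hT.hnw 1)
      (pf_wt hb.zero h2' one_ne_zero hne1 (1 : ZMod 3)) k (fun χ => v χ 1) hk (fun χ => hv χ 1)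
    rw [cs2, hn1, mul_zero, zero_add, if_pos (by rw [neg_neg, div_one]; exact one_mem_rts),
      if_neg (show ¬(1 : ZMod 3) = 0 by decide), ← hIm] at h1
    have h2 : ∑ χ ∈ univ \ Im, k χ * v χ 1 = k (oneC G) * v (oneC G) 1 + k A * v A 1 := by
      have hmem : ∀ {χ : IrrCharacter G}, χ ∈ others F0 (w * (starRingEnd ℂ).toMonoidHom.comp w) →
          χ ∈ univ \ Im := fun {χ} hχ => mem_sdiff.2 ⟨mem_univ _, fun h' => by
        obtain ⟨z, hz, rfl⟩ := mem_image.1 h'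
        exact (mem_others.1 hχ).2 z (mem_erase.1 hz).1 rfl⟩
      rw [← Finset.sum_pair (f := fun χ => k χ * v χ 1) T.neAB]
      refine (Finset.sum_subset (fun χ hχ => ?_) fun χ hχ hne => ?_).symm
      · simp only [mem_insert, mem_singleton] at hχ
        rcases hχ with rfl | rfl; exacts [hmem T.memA, hmem T.memB]
      · simp only [mem_insert, mem_singleton, not_or] at hne
        have := hno χ hχ hne.1 hne.2
        rw [show k χ = 0 by omega, zero_mul]
    have hvo : v (oneC G) 1 = 0 := by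
      have := (hv (oneC G) 1).symm.trans (T.sA.wts 1)
      simp only [if_neg (show ¬(1 : ZMod 3) = 0 by decide)] at this
      exact Nat.cast_inj.1 this
    have hvA : v A 1 = 2 := a1 ▸ Nat.cast_inj.1 ((hv A 1).symm.trans (T.sB.wts 1))
    rw [h2, hvo, hvA, hkA] at h1
    omega
  obtain ⟨χ, hχI, hχo, hχA, hχk⟩ := hex
  have hmemI : ∀ {ψ : IrrCharacter G}, ψ ∈ others F0 (w * (starRingEnd ℂ).toMonoidHom.comp w) →
      ψ ∈ univ \ Im := fun {ψ} hψ => mem_sdiff.2 ⟨mem_univ _, fun h' => by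
    obtain ⟨z, hz, rfl⟩ := mem_image.1 h'
    exact (mem_others.1 hψ).2 z (mem_erase.1 hz).1 rfl⟩
  have h6 : ∑ ψ ∈ ({oneC G, A, χ} : Finset (IrrCharacter G)), k ψ ^ 2 ≤ ∑ ψ ∈ univ \ Im, k ψ ^ 2 := by
    refine Finset.sum_le_sum_of_subset fun ψ hψ => ?_
    simp only [mem_insert, mem_singleton] at hψ
    rcases hψ with rfl | rfl | rfl; exacts [hmemI T.memA, hmemI T.memB, hχI]
  rw [Finset.sum_insert (by simp [T.neAB, hχo.symm]), Finset.sum_pair hχA.symm, hkone, hkA] at h6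
  rw [← Finset.sum_sdiff (subset_univ Im), hfam]
  have h7 : 1 ≤ k χ ^ 2 := Nat.one_le_pow _ _ hχk
  omega

end CfsgLib.LinearSmall.Nineteen
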