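import Cfsg.Agent.Lib.LinearSmall.Nineteen.Coeff
import Cfsg.Agent.Lib.LinearSmall.Nineteen.Invol
import Cfsg.Agent.Lib.LinearSmall.Nineteen.Arith

/-!
# The characters over the trivial central character
-/

namespace CfsgLib.LinearSmall.Nineteen

open Cfsg CfsgLib.Blocks CfsgLib.Blocks.DefectOne CfsgLib.CharTheory CfsgLib.CharTheory.SmallDegree
open CfsgLib.SmallSylow CfsgLib.FeitSmall Finset
open scoped ComplexConjugate

set_option linter.unusedVariables false
set_option linter.style.haveILetI false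
set_option linter.unusedSectionVars false
set_option maxHeartbeats 1000000

universe u

variable {G : Type u} [Group G] [Fintype G] {P : Sylow 19 G} {x h : G} {D : Data P x 3 6} {a₀ : ZMod 19}

/-- The standing assumptions. -/
structure Base (D : Data P x 3 6) (h : G) (a₀ : ZMod 19) (ζ : IrrCharacter G)
    (w : Subgroup.center G →* ℂ) (F : ZMod 19 → IrrCharacter G) : Prop where
  perfect : commutator G = ⊤
  hH : Compl (P : Subgroup G) (Subgroup.center G)
  hh : Gen x 3 h a₀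
  faith : ∀ g : G, (ζ : G → ℂ) g = (ζ : G → ℂ) 1 → g = 1
  deg : charDegree (ζ : G → ℂ) = 16
  cen : HasCen (ζ : G → ℂ) w
  zero : Zero D h w F
  even : 2 ∣ Nat.card (Subgroup.center G)

/-- The conjugate family. -/
noncomputable def cj (F : ZMod 19 → IrrCharacter G) (a : ZMod 19) : IrrCharacter G :=
  ⟨fun g => (starRingEnd ℂ) ((F (-a) : G → ℂ) g), isIrrCharacter_conjChar (F (-a)).2⟩

theorem linear_trivial (hG : commutator G = ⊤) {χ : IrrCharacter G} (h1 : (χ : G → ℂ) 1 = 1) : χ = oneC G := by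
  obtain ⟨d, R, -, hRχ⟩ := χ.2
  have hd : d = 1 := by
    have h2 : (d : ℂ) = ((1 : ℕ) : ℂ) := by
      rw [Nat.cast_one, ← h1, ← hRχ, R.char_one, Module.finrank_fin_fun]
    exact_mod_cast h2
  subst hd
  refine Subtype.ext (funext fun g => ?_)
  show (χ : G → ℂ) g = 1
  rw [← hRχ, ← det_eq_one_of_perfect hG R g]
  show LinearMap.trace ℂ _ (R g) = _
  rw [LinearMap.trace_eq_matrix_trace ℂ (Pi.basisFun ℂ (Fin 1)), ← LinearMap.det_toMatrix (Pi.basisFun ℂ (Fin 1)),
    Matrix.trace_fin_one, Matrix.det_fin_one]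

theorem norm_psi (a : ZMod 19) : ‖psi 19 a‖ = 1 := by
  rw [ZMod.stdAddChar_apply]; exact Circle.norm_coe _

theorem fam_x_ne {W : Subgroup.center G →* ℂ} {F : ZMod 19 → IrrCharacter G} {n : ℕ} (hn : 1 ≤ n)
    (hF : Fam D W F n 1) : (F 1 : G → ℂ) x ≠ (F 1 : G → ℂ) 1 := by
  intro h0
  have h1 := congrArg (fun c : ℂ => ‖c‖) h0
  simp only [apply_fam hF one_ne_zero, fam_one hF, Int.cast_one, one_mul] at h1
  have h2 : ‖∑ r ∈ rts 19 3, psi 19 r‖ ≤ 3 := by
    refine (norm_sum_le _ _).trans ?_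
    rw [Finset.sum_congr rfl fun r _ => norm_psi r, sum_const, D.A.card_rts]
    norm_num
  rw [h1, show (19 : ℂ) * n + 3 = ((19 * n + 3 : ℕ) : ℂ) by push_cast; ring, Complex.norm_natCast] at h2
  have h3 : (19 * n + 3 : ℕ) ≤ 3 := by exact_mod_cast h2
  omega

theorem Sh.x_ne {χ : IrrCharacter G} {σ : ℤ} {M : ℕ} {v : ZMod 3 → ℕ} (hs : Sh x h χ σ M v) (hM : 1 ≤ M) :
    (χ : G → ℂ) x ≠ (χ : G → ℂ) 1 := by
  rw [hs.at_x, hs.one]
  intro h0
  have h1 : ((19 * M : ℕ) : ℂ) = ((0 : ℕ) : ℂ) := by push_cast; linear_combination -h0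
  have : 19 * M = 0 := by exact_mod_cast h1
  omega

theorem Sh.M_pos (hG : commutator G = ⊤) {χ : IrrCharacter G} {σ : ℤ} {M : ℕ} {v : ZMod 3 → ℕ}
    (hs : Sh x h χ σ M v) (hσ : σ = 1 ∨ σ = -1) (hne : χ ≠ oneC G) : 1 ≤ M := by
  rcases Nat.eq_zero_or_pos M with rfl | hM
  · exfalso
    have h1 := hs.one
    rw [Nat.cast_zero, mul_zero, zero_add] at h1
    rcases hσ with rfl | rfl
    · exact hne (linear_trivial hG (by rw [h1, Int.cast_one]))
    · have h2 := hs.total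
      omega
  · exact hM

theorem sh_oneC : Sh x h (oneC G) 1 0 (fun u : ZMod 3 => if u = 0 then 1 else 0) where
  zero := by rw [mult_oneC, if_pos rfl]; simp
  rest z hz := by rw [mult_oneC, if_neg hz]; simp
  at_x := by show (1 : ℂ) = _; simp
  one := by show (1 : ℂ) = _; simp
  wts u := by rw [wt_oneC]; split_ifs <;> simp

theorem Sh.unique {χ : IrrCharacter G} {σ σ' : ℤ} {M M' : ℕ} {v v' : ZMod 3 → ℕ} (hs : Sh x h χ σ M v)
    (hs' : Sh x h χ σ' M' v') : σ = σ' ∧ M = M' ∧ v = v' := by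
  refine ⟨?_, ?_, funext fun u => ?_⟩
  · exact_mod_cast hs.at_x.symm.trans hs'.at_x
  · exact_mod_cast (hs.rest 1 one_ne_zero).symm.trans (hs'.rest 1 one_ne_zero)
  · exact_mod_cast (hs.wts u).symm.trans (hs'.wts u)

variable {ζ : IrrCharacter G} {w : Subgroup.center G →* ℂ} {F : ZMod 19 → IrrCharacter G}

theorem Base.fintypes (hb : Base D h a₀ ζ w F) : charDegree (ζ : G → ℂ) + 1 < 19 := by rw [hb.deg]; norm_num

theorem Base.invol (hb : Base D h a₀ ζ w F) {χ : IrrCharacter G} {σ : ℤ} {M : ℕ} {v : ZMod 3 → ℕ}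
    (hs : Sh x h χ σ M v) (hM : 1 ≤ M) {W : Subgroup.center G →* ℂ} (hW : HasCen (χ : G → ℂ) W) {g : G}
    (hg : g ∉ Subgroup.center G) (hg2 : g * g ∈ Subgroup.center G) (hW2 : W ⟨g * g, hg2⟩ = 1) :
    ∃ r : ℤ, (χ : G → ℂ) g = r ∧ -(19 * (M : ℤ) + σ) < r ∧ r < 19 * (M : ℤ) + σ ∧
      (19 * (M : ℤ) + σ - r) % 4 = 0 :=
  value_invol hb.perfect hb.hH D ζ hb.faith hb.fintypes (hs.x_ne hM) hW hg hg2 hW2
    (by rw [hs.one]; push_cast; ring)

theorem Base.invol_fam (hb : Base D h a₀ ζ w F) {W : Subgroup.center G →* ℂ}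
    {F0 : ZMod 19 → IrrCharacter G} {n : ℕ} (hn : 1 ≤ n) (hF : Fam D W F0 n 1) {g : G}
    (hg : g ∉ Subgroup.center G) (hg2 : g * g ∈ Subgroup.center G) (hW2 : W ⟨g * g, hg2⟩ = 1) :
    ∃ r : ℤ, (F0 1 : G → ℂ) g = r ∧ -(19 * (n : ℤ) + 3) < r ∧ r < 19 * (n : ℤ) + 3 ∧
      (19 * (n : ℤ) + 3 - r) % 4 = 0 :=
  value_invol hb.perfect hb.hH D ζ hb.faith hb.fintypes (fam_x_ne hn hF) (hF.cen 1 one_ne_zero) hg hg2 hW2
    (by rw [fam_one hF]; push_cast; ring)

theorem not_dvd_of_square (hH : Compl (P : Subgroup G) (Subgroup.center G)) (D : Data P x 3 6) {g : G}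
    (hg2 : g * g ∈ Subgroup.center G) : ¬ 19 ∣ orderOf g := fun hd => by
  have h1 : orderOf g ∣ 2 * Nat.card (Subgroup.center G) := orderOf_dvd_of_pow_eq_one (by
    rw [pow_mul, pow_two]; exact congrArg Subtype.val (pow_card_eq_one' (x := (⟨g * g, hg2⟩ : Subgroup.center G))))
  rcases (Nat.Prime.dvd_mul (by norm_num)).1 (hd.trans h1) with h' | h'
  · norm_num at h'
  · exact center_free hH D h'

/-- The shape of the characters over the trivial central character. -/
theorem principal [Fintype (P : Subgroup G)] [Fintype (cen (P : Subgroup G))] [Fintype (Subgroup.center G)]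
    {M : Ideal AlgInt} (hM : IsPModular 19 M) (hb : Base D h a₀ ζ w F) :
    ∃ F0 n nw A B vA vB, Top D h (w * (starRingEnd ℂ).toMonoidHom.comp w) F (cj F) F0 n nw ∧
      nw 0 = 1 ∧ nw 1 = 0 ∧ nw 2 = 0 ∧
      Tri D h (w * (starRingEnd ℂ).toMonoidHom.comp w) F0 (oneC G) A B 1 1 (-1) 0 4 3
        (fun u => if u = 0 then 1 else 0) vA vB ∧
      vA 0 = 1 ∧ vA 1 = 2 ∧ vA 2 = 2 ∧ vB 0 = 0 ∧ vB 1 = 1 ∧ vB 2 = 1 ∧
      classInner (pf F (cj F) 1 1) (oneC G : G → ℂ) = 0 ∧
      classInner (pf F (cj F) 1 1) (A : G → ℂ) = 1 ∧ classInner (pf F (cj F) 1 1) (B : G → ℂ) = 1 ∧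
      classInner (pf F (cj F) 1 (-1)) (A : G → ℂ) = 2 := by
  classical
  have h₂ : Zero D h ((starRingEnd ℂ).toMonoidHom.comp w) (cj F) := hb.zero.conj ⟨a₀, hb.hh⟩
  obtain ⟨F0, n, nw, hT⟩ := exists_top hM hb.hH hb.perfect hb.hh hb.zero h₂
  set W := w * (starRingEnd ℂ).toMonoidHom.comp w with hWdef
  have hW1 : W = 1 := hasCen_conj_mul w
  have hone : oneC G ∈ others F0 W := mem_others.2 ⟨hW1 ▸ hasCen_oneC, fun a ha =>
    hT.fam.ne_of_const (by norm_num) (fun z z' hz hz' => by rw [mult_oneC, mult_oneC, if_neg hz, if_neg hz']) ha⟩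
  obtain ⟨A, B, C, b, c, MA, MB, MC, vA, vB, vC, rfl, T⟩ : ∃ A B C b c MA MB MC vA vB vC, A = oneC G ∧
      Tri D h W F0 A B C 1 b c MA MB MC vA vB vC := by
    obtain ⟨A, B, C, a, b, c, MA, MB, MC, vA, vB, vC, T⟩ := exists_tri hb.hH hb.hh hT.fam
    have key : oneC G = A ∨ oneC G = B ∨ oneC G = C := by
      by_contra h0
      push Not at h0
      have h1 := T.rest _ hone h0.1 h0.2.1 h0.2.2
      exact one_ne_zero (α := ℂ) h1
    rcases key with e1 | e1 | e1
    · obtain ⟨rfl, -, -⟩ := (e1 ▸ T.sA : Sh x h (oneC G) a MA vA).unique sh_oneC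
      exact ⟨A, B, C, b, c, MA, MB, MC, vA, vB, vC, e1.symm, T⟩
    · obtain ⟨rfl, -, -⟩ := (e1 ▸ T.sB : Sh x h (oneC G) b MB vB).unique sh_oneC
      exact ⟨B, C, A, c, a, MB, MC, MA, vB, vC, vA, e1.symm, T.rot⟩
    · obtain ⟨rfl, -, -⟩ := (e1 ▸ T.sC : Sh x h (oneC G) c MC vC).unique sh_oneC
      exact ⟨C, A, B, a, b, MC, MA, MB, vC, vA, vB, e1.symm, T.rot.rot⟩
  obtain ⟨B, C, b, c, MB, MC, vB, vC, T, hord⟩ : ∃ B C b c MB MC vB vC,
      Tri D h W F0 (oneC G) B C 1 b c MA MB MC vA vB vC ∧ (b = 1 ∨ c = -1) := by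
    rcases T.signB with h' | h'
    · exact ⟨B, C, b, c, MB, MC, vB, vC, T, Or.inl h'⟩
    · exact ⟨C, B, c, b, MC, MB, vC, vB, T.swap.rot, Or.inr h'⟩
  obtain ⟨-, rfl, rfl⟩ := T.sA.unique sh_oneC
  have hMB := T.sB.M_pos hb.perfect T.signB T.neAB.symm
  have hMC := T.sC.M_pos hb.perfect T.signC T.neAC.symm
  have hn := hT.pos
  have hrel := T.rel_mult hT.fam
  have hrw := T.rel_wt hb.hh hT.fam hT.hnw
  obtain ⟨g, hg, hg2⟩ := exists_square_central hb.perfect hb.even
  have hgp := not_dvd_of_square hb.hH D hg2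
  have hW2 : W ⟨g * g, hg2⟩ = 1 := by rw [hW1]; rfl
  obtain ⟨r, hr, hr1, hr2, hr4⟩ := hb.invol T.sB hMB (mem_others.1 T.memB).1 hg hg2 hW2
  obtain ⟨s, hs, hs1, hs2, hs4⟩ := hb.invol T.sC hMC (mem_others.1 T.memC).1 hg hg2 hW2
  obtain ⟨f, hf, hf1, hf2, hf4⟩ := hb.invol_fam hn hT.fam hg hg2 hW2
  have e1 := T.reg g hgp
  have e2 := T.triple g hg2 hgp
  rw [hr, hs, hf, show (oneC G : G → ℂ) g = 1 from rfl] at e1 e2
  rw [show (oneC G : G → ℂ) 1 = 1 from rfl, T.sB.one, T.sC.one, fam_one hT.fam] at e2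
  have e1' : (1 : ℤ) + b * r + c * s = f := by
    have : (((1 : ℤ) + b * r + c * s : ℤ) : ℂ) = (f : ℂ) := by push_cast; rw [← e1]; push_cast; ring
    exact_mod_cast this
  have e2' : (1 : ℚ) + b * ((r : ℚ) ^ 2 / (19 * MB + b)) + c * ((s : ℚ) ^ 2 / (19 * MC + c)) =
      (f : ℚ) ^ 2 / (19 * n + 3) := by
    apply (Rat.cast_injective (α := ℂ))
    push_cast
    rw [← e2]
    push_cast
    ring
  obtain ⟨mA, hmA⟩ := exists_coef hb.hh hb.zero h₂ T.sA (mem_others.1 T.memA).1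
  obtain ⟨mB, hmB⟩ := exists_coef hb.hh hb.zero h₂ T.sB (mem_others.1 T.memB).1
  obtain ⟨mC, hmC⟩ := exists_coef hb.hh hb.zero h₂ T.sC (mem_others.1 T.memC).1
  have hd0 : dia (1 : ZMod 19) 1 = 0 := by rw [dia, if_neg (by rw [div_one]; exact neg_one_notMem)]
  have hd1 : dia (1 : ZMod 19) (-1) = 1 := by rw [dia, if_pos (by rw [neg_neg, div_one]; exact one_mem_rts)]
  have hc11 : ∀ {χ : IrrCharacter G} {σ : ℤ} {m : ℕ}, (∀ a c : ZMod 19, a ≠ 0 → c ≠ 0 →
      classInner (pf F (cj F) a c) (χ : G → ℂ) = (m : ℂ) + (σ : ℂ) * (dia a c : ℂ)) →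
      classInner (pf F (cj F) 1 1) (χ : G → ℂ) = m := fun {χ σ m} hm => by
    rw [hm 1 1 one_ne_zero one_ne_zero, hd0, Int.cast_zero, mul_zero, add_zero]
  have hne1 : (-1 : ZMod 19) ≠ 0 := by decide
  have hA0 : classInner (pf F (cj F) 1 1) (oneC G : G → ℂ) = 0 := by
    rw [← classInner_irr_ne (F 1).2 (F (-1)).2 (fun e1 => neg_one_notMem (by
      simpa using (hb.zero.fam.eq_iff 1 (-1) one_ne_zero hne1).1 (Subtype.ext e1)))]
    simp only [classInner, pf, cj]
    congr 1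
    refine Finset.sum_congr rfl fun y _ => ?_
    show _ * (starRingEnd ℂ) (1 : ℂ) = _
    rw [map_one, mul_one]
  have hmA0 : mA = 0 := by exact_mod_cast (hc11 hmA).symm.trans hA0
  subst hmA0
  have hsum := hT.sum_coef hb.zero h₂ T (hc11 hmA) (hc11 hmB) (hc11 hmC)
  rcases T.signB with rfl | rfl <;> rcases T.signC with rfl | rfl
  · exfalso
    have hN0 : ((n : ℚ) * 19 + 3) = 1 + (19 * MB + 1) + (19 * MC + 1) := by
      have : (n : ℚ) = MB + MC := by
        have h' : (1 : ℤ) * MB + 1 * MC = n := by omega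
        exact_mod_cast (show (n : ℤ) = MB + MC by omega)
      rw [this]; ring
    set N : ℚ := (n : ℚ) * 19 + 3
    have hNpos : 0 < N := by positivity
    have hfs : (f : ℚ) = 1 + r + s := by exact_mod_cast (show f = 1 + r + s by omega)
    set q : ℚ := (f : ℚ) / N
    have key : (1 - q) ^ 2 + (19 * (MB : ℚ) + 1) * ((r : ℚ) / (19 * MB + 1) - q) ^ 2 +
        (19 * (MC : ℚ) + 1) * ((s : ℚ) / (19 * MC + 1) - q) ^ 2 = 0 := by
      have hB0 : (19 * (MB : ℚ) + 1) ≠ 0 := by positivity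
      have hC0 : (19 * (MC : ℚ) + 1) ≠ 0 := by positivity
      have hqN : q * N = f := div_mul_cancel₀ _ hNpos.ne'
      have h2 : (f : ℚ) ^ 2 / (19 * (n : ℚ) + 3) = q * f := by
        rw [show (19 * (n : ℚ) + 3) = N by simp only [N]; ring]
        simp only [q]; ring
      push_cast at e2'
      rw [h2] at e2'
      have er : (19 * (MB : ℚ) + 1) * ((r : ℚ) / (19 * MB + 1) - q) ^ 2 =
          (r : ℚ) ^ 2 / (19 * MB + 1) - 2 * q * r + q ^ 2 * (19 * MB + 1) := by field_simp; ring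
      have es : (19 * (MC : ℚ) + 1) * ((s : ℚ) / (19 * MC + 1) - q) ^ 2 =
          (s : ℚ) ^ 2 / (19 * MC + 1) - 2 * q * s + q ^ 2 * (19 * MC + 1) := by field_simp; ring
      rw [er, es]
      linear_combination e2' - q ^ 2 * hN0 + q * hqN + (2 * q) * hfs
    have h0 : (1 - q) ^ 2 ≤ 0 := by
      rw [← key]
      have a1 : 0 ≤ (19 * (MB : ℚ) + 1) * ((r : ℚ) / (19 * MB + 1) - q) ^ 2 := by positivity
      have a2 : 0 ≤ (19 * (MC : ℚ) + 1) * ((s : ℚ) / (19 * MC + 1) - q) ^ 2 := by positivity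
      linarith
    have hq1 : q = 1 := by nlinarith [sq_nonneg (1 - q)]
    have hfN : (f : ℚ) = N := by
      rw [← div_mul_cancel₀ (f : ℚ) hNpos.ne']; show q * N = N; rw [hq1, one_mul]
    have : f = (19 * (n : ℤ) + 3) := by
      have h' : (f : ℚ) = ((19 * (n : ℤ) + 3 : ℤ) : ℚ) := by rw [hfN]; simp only [N]; push_cast; ring
      exact_mod_cast h'
    omega
  · -- the signs are `+` and `-`
    refine ⟨F0, n, nw, B, C, vB, vC, hT, ?_⟩
    have hm : mB = mC := by omega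
    subst hm
    obtain ⟨k, hk⟩ := classInner_char_nat (isCharacter_pf (F₁ := F) (F₂ := cj F) 1 (-1)) (isCharacter_of_irr C.2)
    have hm1 : 1 ≤ mB := by
      have h1 := hk.symm.trans (hmC 1 (-1) one_ne_zero hne1)
      rw [hd1] at h1
      have h2 : (k : ℤ) = (mB : ℤ) + (-1) := by
        have : ((k : ℤ) : ℂ) = (((mB : ℤ) + (-1) : ℤ) : ℂ) := by push_cast; rw [h1]; push_cast; ring
        exact_mod_cast this
      omega
    have hslot : ∀ u : ZMod 3, 3 * nw u + mB * (vB u + vC u) ≤ 4 + (if u = 0 then 1 else 0) := fun u => by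
      have h1 := hT.slot hb.hh hb.zero h₂ (Or.inl rfl) {B, C}
        (fun χ hχ => by simp only [mem_insert, mem_singleton] at hχ; rcases hχ with rfl | rfl; exacts [T.memB, T.memC])
        (fun _ => mB) (fun χ => if χ = B then vB else vC)
        (fun χ hχ => by
          simp only [mem_insert, mem_singleton] at hχ
          rcases hχ with rfl | rfl; exacts [hc11 hmB, hc11 hmC])
        (fun χ hχ => by
          simp only [mem_insert, mem_singleton] at hχ
          rcases hχ with rfl | rfl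
          · simpa using T.sB.wts
          · simpa [T.neBC.symm] using T.sC.wts) u
      rw [Finset.sum_pair T.neBC, if_pos rfl, if_pos rfl, if_pos rfl, if_neg T.neBC.symm] at h1
      rw [Nat.mul_add]; exact h1
    have hw0 := hrw 0
    have hw1 := hrw 1
    have hw2 := hrw 2
    rw [if_pos rfl] at hw0
    rw [if_neg (by decide)] at hw1 hw2
    have tB := T.sB.total
    have tC := T.sC.total
    have n0 := hT.le_one 0
    have n1 := hT.le_one 1
    have n2 := hT.le_one 2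
    have hsn := hT.sum
    have s0 := hslot 0
    have s1 := hslot 1
    have s2 := hslot 2
    rw [if_pos rfl] at s0
    rw [if_neg (by decide)] at s1 s2
    have k0 : vB 0 + vC 0 ≤ mB * (vB 0 + vC 0) := Nat.le_mul_of_pos_left _ hm1
    have k1 : vB 1 + vC 1 ≤ mB * (vB 1 + vC 1) := Nat.le_mul_of_pos_left _ hm1
    have k2 : vB 2 + vC 2 ≤ mB * (vB 2 + vC 2) := Nat.le_mul_of_pos_left _ hm1
    have hn1 : nw 1 = 0 := by omega
    have hn2 : nw 2 = 0 := by omega
    have hn0 : nw 0 = 1 := by omega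
    have hc0 : vC 0 = 0 := by omega
    have hc1 : vC 1 ≤ 1 := by omega
    have hc2 : vC 2 ≤ 1 := by omega
    have hn : n = 1 := by omega
    subst hn
    rcases (show vC 1 + vC 2 = 0 ∨ vC 1 + vC 2 = 1 ∨ (vC 1 = 1 ∧ vC 2 = 1) by omega) with hs0 | hs0 | ⟨hs0, hs0'⟩
    · exfalso
      obtain rfl : MB = 2 := by omega
      obtain rfl : MC = 1 := by omega
      have hp := proportional (A := 1) (B := 39) (C := 18) (D := 22) (a := 1) (b := r) (c := s) (f := f)
        (by norm_num) (by norm_num) (by norm_num) (by norm_num)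
        (by exact_mod_cast (show 1 + r = s + f by omega)) (by norm_num)
        (by norm_num at e2' ⊢; linarith) (by convert nonsquare_three.2.2.2.1 using 2; norm_num)
      have hp' : 22 * r = 39 * f := by exact_mod_cast hp
      omega
    · exfalso
      obtain rfl : MB = 3 := by omega
      obtain rfl : MC = 2 := by omega
      have hp := proportional (A := 1) (B := 58) (C := 37) (D := 22) (a := 1) (b := r) (c := s) (f := f)
        (by norm_num) (by norm_num) (by norm_num) (by norm_num)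
        (by exact_mod_cast (show 1 + r = s + f by omega)) (by norm_num)
        (by norm_num at e2' ⊢; linarith) (by convert nonsquare_three.2.2.2.2 using 2; norm_num)
      have hp' : 22 * r = 58 * f := by exact_mod_cast hp
      omega
    · obtain rfl : MB = 4 := by omega
      obtain rfl : MC = 3 := by omega
      have hb1 : vB 1 = 2 := by omega
      have hm : mB = 1 := by
        have : mB * 3 ≤ mB * (vB 1 + vC 1) := Nat.mul_le_mul_left _ (by omega)
        omega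
      subst hm
      exact ⟨hn0, hn1, hn2, T, by omega, hb1, by omega, hc0, hs0, hs0', hA0,
        by rw [hc11 hmB, Nat.cast_one], by rw [hc11 hmC, Nat.cast_one],
        by rw [hmB 1 (-1) one_ne_zero hne1, hd1]; norm_num⟩
  · exfalso
    omega
  · exfalso
    have hm : mB = 0 := by omega
    obtain ⟨k, hk⟩ := classInner_char_nat (isCharacter_pf (F₁ := F) (F₂ := cj F) 1 (-1)) (isCharacter_of_irr B.2)
    have h1 := hk.symm.trans (hmB 1 (-1) one_ne_zero hne1)
    rw [hd1, hm] at h1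
    have h2 : ((k : ℤ) : ℂ) = ((-1 : ℤ) : ℂ) := by push_cast; rw [h1]; push_cast; ring
    have h3 : (k : ℤ) = -1 := by exact_mod_cast h2
    omega

end CfsgLib.LinearSmall.Nineteen
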