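import Cfsg.Agent.Lib.LinearSmall.Nineteen.Others
import Cfsg.Agent.Lib.FeitSmall.Perfect

/-!
# Products of two members of families when `p = 19` and `e = 3`
-/

namespace CfsgLib.LinearSmall.Nineteen

open Cfsg CfsgLib.Blocks CfsgLib.Blocks.DefectOne CfsgLib.CharTheory CfsgLib.CharTheory.SmallDegree
open CfsgLib.SmallSylow CfsgLib.FeitSmall Finset
open scoped ComplexConjugate

set_option linter.unusedVariables false
set_option linter.style.haveILetI false
set_option linter.unusedSectionVars false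

universe u

instance fact_nineteen : Fact (Nat.Prime 19) := ⟨by norm_num⟩

variable {G : Type u} [Group G] [Fintype G] {P : Sylow 19 G} {x : G}

theorem rts_eq : rts 19 3 = {1, 7, 11} := by decide

theorem neg_one_notMem : (-1 : ZMod 19) ∉ rts 19 3 := by decide

theorem cc_values :
    cc 19 3 1 1 8 = 2 ∧ cc 19 3 1 (-1) 1 = 0 ∧ cc 19 3 1 1 1 = 0 ∧
    (∑ z ∈ univ.erase (0 : ZMod 19), cc 19 3 1 1 z = 9) ∧
    (∑ z ∈ univ.erase (0 : ZMod 19), cc 19 3 1 (-1) z = 6) ∧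
    (∑ z ∈ univ.erase (0 : ZMod 19), cc 19 3 1 1 z * cc 19 3 1 1 z = 15) ∧
    (∑ z ∈ univ.erase (0 : ZMod 19), cc 19 3 1 (-1) z * cc 19 3 1 (-1) z = 6) := by decide

/-- A family with all weights trivial. -/
structure Zero (D : Data P x 3 6) (h : G) (w : Subgroup.center G →* ℂ) (F : ZMod 19 → IrrCharacter G) : Prop where
  fam : Fam D w F 1 (-1)
  wts : ∀ a, a ≠ 0 → ∀ u : ZMod 3, wt x h 19 (F a : G → ℂ) u = if u = 0 then 1 else 0
  vals : ∀ a, a ≠ 0 → ∀ j : ZMod 3, j ≠ 0 → (F a : G → ℂ) (hq h j) = psiE 3 ((0 : ZMod 3) * j)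

theorem Zero.conj {D : Data P x 3 6} {h : G} {w : Subgroup.center G →* ℂ} {F : ZMod 19 → IrrCharacter G}
    (hh : ∃ a₀ : ZMod 19, Gen x 3 h a₀) (hF : Zero D h w F) :
    Zero D h ((starRingEnd ℂ).toMonoidHom.comp w)
      (fun a => ⟨fun g => (starRingEnd ℂ) ((F (-a) : G → ℂ) g), isIrrCharacter_conjChar (F (-a)).2⟩) := by
  obtain ⟨a₀, hh⟩ := hh
  have hv : ∀ a : ZMod 19, a ≠ 0 → ∀ j : ZMod 3, j ≠ 0 →
      (starRingEnd ℂ) ((F (-a) : G → ℂ) (hq h j)) = psiE 3 ((0 : ZMod 3) * j) := fun a ha j hj => by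
    rw [hF.vals (-a) (neg_ne_zero.2 ha) j hj, zero_mul, AddChar.map_zero_eq_one, map_one]
  refine ⟨hF.fam.conj, fun a ha u => ?_, hv⟩
  rw [wt_of_values _ (0 : ZMod 3) (hv a ha) u, hF.fam.conj.vals a ha, if_neg (zero_div_notMem D.A a)]
  norm_num

variable {D : Data P x 3 6} {h : G} {a₀ : ZMod 19} {w₁ w₂ : Subgroup.center G →* ℂ}
  {F₁ F₂ : ZMod 19 → IrrCharacter G}

/-- The product of two members. -/
noncomputable def pf (F₁ F₂ : ZMod 19 → IrrCharacter G) (a c : ZMod 19) : G → ℂ :=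
  fun g => (F₁ a : G → ℂ) g * (F₂ c : G → ℂ) g

theorem isCharacter_pf (a c : ZMod 19) : IsCharacter G (pf F₁ F₂ a c) :=
  isCharacter_mul (isCharacter_of_irr (F₁ a).2) (isCharacter_of_irr (F₂ c).2)

theorem pf_wt (h₁ : Zero D h w₁ F₁) (h₂ : Zero D h w₂ F₂) {a c : ZMod 19} (ha : a ≠ 0) (hc : c ≠ 0)
    (u : ZMod 3) : wt x h 19 (pf F₁ F₂ a c) u =
      ((4 + (if -c / a ∈ rts 19 3 then 1 else 0) + (if u = 0 then 1 else 0) : ℕ) : ℂ) := by
  have h1 := prod_wt (x := x) (h := h) (u := u) D.A (by norm_num) ha hc (h₁.fam.shape ha) (h₂.fam.shape hc)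
    (h₁.vals a ha) (h₂.vals c hc)
  rw [add_zero] at h1
  exact h1

/-- The family over the product. -/
structure Top (D : Data P x 3 6) (h : G) (W : Subgroup.center G →* ℂ) (F₁ F₂ F : ZMod 19 → IrrCharacter G)
    (n : ℕ) (nw : ZMod 3 → ℕ) : Prop where
  fam : Fam D W F n 1
  coef : ∀ a c z : ZMod 19, a ≠ 0 → c ≠ 0 → z ≠ 0 →
    classInner (pf F₁ F₂ a c) (F z : G → ℂ) = cc 19 3 a c z
  le_one : ∀ u, nw u ≤ 1
  sum : nw 0 + nw 1 + nw 2 = n
  pos : 1 ≤ n
  hnw : ∀ u, wt x h 19 (F 1 : G → ℂ) u = nw u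

theorem sum_three_zmod (f : ZMod 3 → ℕ) : ∑ u, f u = f 0 + f 1 + f 2 := by
  rw [show (univ : Finset (ZMod 3)) = {0, 1, 2} from by decide, Finset.sum_insert (by decide),
    Finset.sum_insert (by decide), Finset.sum_singleton, add_assoc]

theorem exists_top [Fintype (P : Subgroup G)] [Fintype (cen (P : Subgroup G))] [Fintype (Subgroup.center G)]
    {M : Ideal AlgInt} (hM : IsPModular 19 M) (hH : Compl (P : Subgroup G) (Subgroup.center G))
    (hG : commutator G = ⊤) (hh : Gen x 3 h a₀) (h₁ : Zero D h w₁ F₁) (h₂ : Zero D h w₂ F₂) :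
    ∃ F n nw, Top D h (w₁ * w₂) F₁ F₂ F n nw := by
  classical
  obtain ⟨F, n, ε, hF⟩ := exists_fam D hM hH (w₁ * w₂)
  have hn : 1 ≤ n := zero_fixed_ne D hG (by norm_num) (by norm_num) hF
  obtain ⟨K, hK⟩ := uniform h₁.fam h₂.fam hF
  choose B hB using fun q : ZMod 19 × ZMod 19 × ZMod 19 =>
    classInner_char_nat (isCharacter_pf (F₁ := F₁) (F₂ := F₂) q.1 q.2.1) (isCharacter_of_irr (F q.2.2).2)
  have hBK : ∀ a c z : ZMod 19, a ≠ 0 → c ≠ 0 → z ≠ 0 → ε * (B (a, c, z) : ℤ) = K + cc 19 3 a c z := by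
    intro a c z ha hc hz
    have h1 := hK a c z ha hc hz
    rw [show classInner (fun g => (F₁ a : G → ℂ) g * (F₂ c : G → ℂ) g) (F z : G → ℂ) = (B (a, c, z) : ℂ) from
      hB (a, c, z)] at h1
    exact_mod_cast h1
  choose nw hnw using fun u : ZMod 3 => hh.wt_nat D (isCharacter_of_irr (F 1).2) u
  have hsum : nw 0 + nw 1 + nw 2 = n := by
    rw [← sum_three_zmod]
    have h1 := sum_wt (x := x) (h := h) (p := 19) (e := 3) (F 1 : G → ℂ)
    rw [hF.vals 1 one_ne_zero, if_neg (zero_div_notMem D.A 1), mul_zero, add_zero,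
      Finset.sum_congr rfl fun u _ => hnw u] at h1
    exact_mod_cast h1
  have hslot : ∀ (c : ZMod 19) (hc : c ≠ 0) (u : ZMod 3),
      (∑ z ∈ univ.erase (0 : ZMod 19), B (1, c, z)) * nw u ≤
        3 * (4 + (if -c / 1 ∈ rts 19 3 then 1 else 0) + (if u = 0 then 1 else 0)) := fun c hc u => by
    have h1 := hF.slot hh (isCharacter_pf (F₁ := F₁) (F₂ := F₂) 1 c) u (fun z => B (1, c, z))
      (fun z _ => hB (1, c, z)) (hnw u) (pf_wt h₁ h₂ one_ne_zero hc u) ∅ (fun _ => 0) (fun _ => 0)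
      (fun χ hχ => by simp at hχ) (fun χ hχ => by simp at hχ) (fun χ hχ => by simp at hχ)
    simpa using h1
  have hbsum : ∀ c : ZMod 19, c ≠ 0 → (∑ z ∈ univ.erase (0 : ZMod 19), (ε * (B (1, c, z) : ℤ))) =
      18 * K + ((∑ z ∈ univ.erase (0 : ZMod 19), cc 19 3 1 c z : ℕ) : ℤ) := fun c hc => by
    rw [Finset.sum_congr rfl fun z hz => hBK 1 c z one_ne_zero hc (mem_erase.1 hz).1, sum_add_distrib,
      sum_const, card_erase_of_mem (mem_univ _), card_univ, ZMod.card, Nat.cast_sum]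
    norm_num
  have hneg1 : (-1 : ZMod 19) ≠ 0 := by decide
  have hi1 : (if -(-1 : ZMod 19) / 1 ∈ rts 19 3 then 1 else 0 : ℕ) = 1 := by
    rw [if_pos (by rw [neg_neg, div_one]; exact one_mem_rts)]
  have hi0 : (if -(1 : ZMod 19) / 1 ∈ rts 19 3 then 1 else 0 : ℕ) = 0 := by
    rw [if_neg (by rw [div_one]; exact neg_one_notMem)]
  obtain ⟨c8, c0', c0, cs1, cs2, -, -⟩ := cc_values
  have hne8 : (8 : ZMod 19) ≠ 0 := by decide
  rcases hF.sgn with hε | hε
  · subst hε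
    have hK0 : 0 ≤ K := by
      have h1 := hBK 1 1 1 one_ne_zero one_ne_zero one_ne_zero
      rw [c0] at h1
      omega
    have hb := hbsum 1 one_ne_zero
    rw [cs1] at hb
    simp only [one_mul] at hb
    rw [← Nat.cast_sum] at hb
    have hle : ∀ u, nw u ≤ 1 ∧ (nw u = 1 → K = 0) := fun u => by
      have h1 := hslot 1 one_ne_zero u
      rw [hi0] at h1
      have hS : 9 ≤ ∑ z ∈ univ.erase (0 : ZMod 19), B (1, 1, z) := by omega
      have h2 : nw u ≤ 1 := by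
        have h3 : 9 * nw u ≤ (∑ z ∈ univ.erase (0 : ZMod 19), B (1, 1, z)) * nw u :=
          Nat.mul_le_mul_right _ hS
        split_ifs at h1 <;> omega
      refine ⟨h2, fun h3 => ?_⟩
      rw [h3, mul_one] at h1
      split_ifs at h1 <;> omega
    have hK' : K = 0 := by
      have h0 := (hle 0).1; have h1 := (hle 1).1; have h2 := (hle 2).1
      rcases (show nw 0 = 1 ∨ nw 1 = 1 ∨ nw 2 = 1 by omega) with h' | h' | h'
      · exact (hle 0).2 h'
      · exact (hle 1).2 h'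
      · exact (hle 2).2 h'
    refine ⟨F, n, nw, hF, fun a c z ha hc hz => ?_, fun u => (hle u).1, hsum, hn, hnw⟩
    have h1 := hBK a c z ha hc hz
    rw [hK', zero_add, one_mul] at h1
    rw [hB (a, c, z)]
    exact_mod_cast h1
  · exfalso
    subst hε
    have hK2 : K ≤ -2 := by
      have h1 := hBK 1 1 8 one_ne_zero one_ne_zero hne8
      rw [c8] at h1
      omega
    have hb := hbsum (-1) hneg1
    rw [cs2] at hb
    simp only [neg_one_mul, Finset.sum_neg_distrib] at hb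
    rw [← Nat.cast_sum] at hb
    have hle : ∀ u, nw u = 0 := fun u => by
      have h1 := hslot (-1) hneg1 u
      rw [hi1] at h1
      have hS : 30 ≤ ∑ z ∈ univ.erase (0 : ZMod 19), B (1, -1, z) := by omega
      have h3 : 30 * nw u ≤ (∑ z ∈ univ.erase (0 : ZMod 19), B (1, -1, z)) * nw u :=
        Nat.mul_le_mul_right _ hS
      split_ifs at h1 <;> omega
    rw [hle, hle, hle] at hsum
    omega

end CfsgLib.LinearSmall.Nineteen
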