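import Cfsg.Agent.Lib.LinearSmall.Nineteen.Norm

/-!
# No perfect group with a character of degree `16` and a Sylow subgroup of order `19`
-/

namespace CfsgLib.LinearSmall.Nineteen

open Cfsg CfsgLib.Blocks CfsgLib.Blocks.DefectOne CfsgLib.CharTheory CfsgLib.CharTheory.SmallDegree
open CfsgLib.SmallSylow CfsgLib.FeitSmall Finset
open scoped ComplexConjugate

set_option linter.unusedVariables false
set_option linter.style.haveILetI false
set_option linter.unusedSectionVars false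
set_option maxHeartbeats 1000000

universe u

variable {G : Type u} [Group G] [Fintype G] {P : Sylow 19 G} {x h : G} {D : Data P x 3 6} {a₀ : ZMod 19}
  {ζ : IrrCharacter G} {w : Subgroup.center G →* ℂ} {F : ZMod 19 → IrrCharacter G}

theorem arith_one {MA MB MC : ℕ} (oA : MA % 2 = 1) (oB : MB % 2 = 1) (hle : MA + MB ≤ 12)
    (hMC : MA + MB = MC + 1) {rA rB rC f : ℤ} (e1 : rA + rB = rC + f)
    (hB1 : -(19 * (MB : ℤ) + 1) < rB) (hB2 : rB < 19 * (MB : ℤ) + 1) (hB4 : (19 * (MB : ℤ) + 1 - rB) % 4 = 0)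
    (hf1 : -(19 * ((1 : ℕ) : ℤ) + 3) < f) (hf2 : f < 19 * ((1 : ℕ) : ℤ) + 3)
    (hf4 : (19 * ((1 : ℕ) : ℤ) + 3 - f) % 4 = 0)
    (e2 : (rA : ℚ) ^ 2 / (19 * MA + 1) + (rB : ℚ) ^ 2 / (19 * MB + 1) =
      (rC : ℚ) ^ 2 / (19 * MC - 1) + (f : ℚ) ^ 2 / 22) : False := by
  have hsq := nonsquare_one oA oB hle
  rw [show MA + MB - 1 = MC by omega] at hsq
  have hMC1 : 1 ≤ 19 * MC := by omega
  push_cast [Nat.cast_sub hMC1] at hsq
  have hC : (1 : ℚ) ≤ MC := by exact_mod_cast (show 1 ≤ MC by omega)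
  have hM : (MA : ℚ) + MB = MC + 1 := by exact_mod_cast hMC
  have hp := proportional (a := (rA : ℚ)) (b := (rB : ℚ)) (c := (rC : ℚ)) (f := (f : ℚ))
    (A := 19 * (MA : ℚ) + 1) (B := 19 * (MB : ℚ) + 1) (C := 19 * (MC : ℚ) - 1) (D := 22)
    (by positivity) (by positivity) (by linarith) (by norm_num) (by exact_mod_cast e1) (by linarith) e2 hsq
  have hp' : 22 * rB = (19 * (MB : ℤ) + 1) * f := by exact_mod_cast hp
  clear hp hsq hC hM e2
  have hMB : MB ≤ 11 := by omega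
  interval_cases MB <;> omega

theorem arith_three {rA rB rC f : ℤ} (e1 : rA + rB = rC + f) (hC4 : (18 - rC) % 4 = 0) (hf1 : -60 < f)
    (hf2 : f < 60) (hf4 : (60 - f) % 4 = 0)
    (e2 : (rA : ℚ) ^ 2 / 20 + (rB : ℚ) ^ 2 / 58 = (rC : ℚ) ^ 2 / 18 + (f : ℚ) ^ 2 / 60) : False := by
  have hp := proportional (a := (rA : ℚ)) (b := (rB : ℚ)) (c := (rC : ℚ)) (f := (f : ℚ))
    (A := 20) (B := 58) (C := 18) (D := 60) (by norm_num) (by norm_num) (by norm_num) (by norm_num)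
    (by exact_mod_cast e1) (by norm_num) e2 (by convert nonsquare_three.1 using 2; norm_num)
  have hp' : 60 * rB = 58 * f := by exact_mod_cast hp
  have hf0 : f = 0 := by omega
  have hb0 : rB = 0 := by omega
  have hac : rA = rC := by omega
  subst hf0 hb0 hac
  have h0 : (rA : ℚ) ^ 2 = 0 := by norm_num at e2; linarith
  have h0' : rA = 0 := by exact_mod_cast (pow_eq_zero_iff two_ne_zero).1 h0
  omega

/-- Three fixed points, one vanishing coefficient. -/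
theorem pm_three [Fintype (P : Subgroup G)] [Fintype (cen (P : Subgroup G))] [Fintype (Subgroup.center G)]
    {M : Ideal AlgInt} (hM : IsPModular 19 M) (hb : Base D h a₀ ζ w F) (hw : w * w ≠ 1)
    {F0 : ZMod 19 → IrrCharacter G} {nw : ZMod 3 → ℕ} (hT : Top D h (w * w) F F F0 3 nw)
    (hall : ∀ u, nw u = 1) {A B C : IrrCharacter G} {MA MB MC : ℕ} {vA vB vC : ZMod 3 → ℕ}
    (T : Tri D h (w * w) F0 A B C 1 1 (-1) MA MB MC vA vB vC) {mA mC : ℕ}
    (hA : classInner (pf F F 1 1) (A : G → ℂ) = mA) (hB : classInner (pf F F 1 1) (B : G → ℂ) = ((0 : ℕ) : ℂ))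
    (hC : classInner (pf F F 1 1) (C : G → ℂ) = mC) (hm : mA = mC) (hm1 : 1 ≤ mC)
    (hs : mA * vA 0 + mC * vC 0 ≤ 2 ∧ mA * vA 1 + mC * vC 1 ≤ 1 ∧ mA * vA 2 + mC * vC 2 ≤ 1)
    (g : G) (hg : g ∉ Subgroup.center G) (hg2 : g * g ∈ Subgroup.center G) (hgp : ¬ 19 ∣ orderOf g)
    (hW2 : (w * w) ⟨g * g, hg2⟩ = 1) : False := by
  have hcA := (mem_others.1 T.memA).1
  have hcB := (mem_others.1 T.memB).1
  have hcC := (mem_others.1 T.memC).1
  have oA := hb.M_odd hw T.sA T.signA hcA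
  have oB := hb.M_odd hw T.sB T.signB hcB
  have oC := hb.M_odd hw T.sC T.signC hcC
  have hrel := T.rel_mult hT.fam
  have tA := T.sA.total
  have tC := T.sC.total
  subst hm
  have lA : ∀ u, vA u + vC u ≤ mA * vA u + mA * vC u := fun u => by
    rw [← Nat.mul_add]; exact Nat.le_mul_of_pos_left _ hm1
  have l0 := lA 0
  have l1 := lA 1
  have l2 := lA 2
  have hcases : (MA = 1 ∧ MC = 1 ∧ MB = 3) ∨ (MA = 1 ∧ MC = 3 ∧ MB = 5) ∨ (MA = 3 ∧ MC = 1 ∧ MB = 1) := by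
    obtain ⟨u0, u1, u2⟩ := hs
    omega
  obtain ⟨rA, hrA, hA1, hA2, hA4⟩ := hb.invol T.sA (by omega) hcA hg hg2 hW2
  obtain ⟨rB, hrB, hB1, hB2, hB4⟩ := hb.invol T.sB (by omega) hcB hg hg2 hW2
  obtain ⟨rC, hrC, hC1, hC2, hC4⟩ := hb.invol T.sC (by omega) hcC hg hg2 hW2
  obtain ⟨f, hf, hf1, hf2, hf4⟩ := hb.invol_fam hT.pos hT.fam hg hg2 hW2
  have e1 := T.reg g hgp
  have e2 := T.triple g hg2 hgp
  rw [hrA, hrB, hrC, hf] at e1 e2
  rw [T.sA.one, T.sB.one, T.sC.one, fam_one hT.fam] at e2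
  have e1' : rA + rB = rC + f := by
    have h' : ((rA + rB : ℤ) : ℂ) = ((rC + f : ℤ) : ℂ) := by push_cast at e1 ⊢; linear_combination e1
    exact_mod_cast h'
  have e2' : (rA : ℚ) ^ 2 / (19 * MA + 1) + (rB : ℚ) ^ 2 / (19 * MB + 1) =
      (rC : ℚ) ^ 2 / (19 * MC - 1) + (f : ℚ) ^ 2 / (19 * 3 + 3) := by
    apply (Rat.cast_injective (α := ℂ))
    push_cast at e2 ⊢
    linear_combination e2
  rcases hcases with ⟨rfl, rfl, rfl⟩ | ⟨rfl, rfl, rfl⟩ | ⟨rfl, rfl, rfl⟩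
  · exact arith_three e1' (by omega) (by omega) (by omega) (by omega) (by norm_num at e2'; exact e2')
  · have hv : mA = 1 := by
      by_contra h0
      obtain ⟨u0, u1, u2⟩ := hs
      have jA : ∀ u, 2 * vA u + 2 * vC u ≤ mA * vA u + mA * vC u := fun u =>
        Nat.add_le_add (Nat.mul_le_mul_right _ (by omega)) (Nat.mul_le_mul_right _ (by omega))
      have j0 := jA 0
      have j1 := jA 1
      have j2 := jA 2
      omega
    subst hv
    obtain ⟨N, hN, hN7⟩ := norm_le hb hw hT hall T hA hB hC ⟨by omega, by simp, by omega⟩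
    have := le_norm hM hb hN
    omega
  · exact arith_three (rA := rB) (rB := rA) (rC := rC) (f := f) (by omega) (by omega : (18 - rC) % 4 = 0) (by omega) (by omega)
      (by omega) (by norm_num at e2'; linarith)

/-- The configuration does not occur. -/
theorem base_false [Fintype (P : Subgroup G)] [Fintype (cen (P : Subgroup G))] [Fintype (Subgroup.center G)]
    {M : Ideal AlgInt} (hM : IsPModular 19 M) (hb : Base D h a₀ ζ w F) : False := by
  classical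
  have hw := sq_ne_one hM hb
  obtain ⟨F0, n, nw, hT⟩ := exists_top hM hb.hH hb.perfect hb.hh hb.zero hb.zero
  set W := w * w with hWdef
  have hn := hT.pos
  have hsn := hT.sum
  have n0 := hT.le_one 0
  have n1 := hT.le_one 1
  have n2 := hT.le_one 2
  have hNF : (F0 1 : G → ℂ) 1 = (((19 : ℤ) * n + 3 : ℤ) : ℂ) := by rw [fam_one hT.fam]; push_cast; ring
  have hpar := even_degree hb hw (hT.fam.cen 1 one_ne_zero) hNF
  have h12 := det_weights hb.perfect hb.hh (F0 1) (k := 6 * n + 1) hT.hnw (by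
    rw [fam_one hT.fam, hsn]; push_cast; ring)
  have hnw0 : nw 0 = 1 := by omega
  obtain ⟨A, B, C, a, b, c, MA, MB, MC, vA, vB, vC, T, hord⟩ : ∃ A B C a b c MA MB MC vA vB vC,
      Tri D h W F0 A B C a b c MA MB MC vA vB vC ∧
      ((a = 1 ∧ b = 1) ∨ (a = 1 ∧ b = -1 ∧ c = -1) ∨ (a = -1 ∧ b = -1 ∧ c = -1)) := by
    obtain ⟨A, B, C, a, b, c, MA, MB, MC, vA, vB, vC, T⟩ := exists_tri hb.hH hb.hh hT.fam
    rcases T.signA with rfl | rfl <;> rcases T.signB with rfl | rfl <;> rcases T.signC with rfl | rfl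
    · exact ⟨_, _, _, _, _, _, _, _, _, _, _, _, T, Or.inl ⟨rfl, rfl⟩⟩
    · exact ⟨_, _, _, _, _, _, _, _, _, _, _, _, T, Or.inl ⟨rfl, rfl⟩⟩
    · exact ⟨_, _, _, _, _, _, _, _, _, _, _, _, T.rot.rot, Or.inl ⟨rfl, rfl⟩⟩
    · exact ⟨_, _, _, _, _, _, _, _, _, _, _, _, T, Or.inr (Or.inl ⟨rfl, rfl, rfl⟩)⟩
    · exact ⟨_, _, _, _, _, _, _, _, _, _, _, _, T.rot, Or.inl ⟨rfl, rfl⟩⟩
    · exact ⟨_, _, _, _, _, _, _, _, _, _, _, _, T.rot, Or.inr (Or.inl ⟨rfl, rfl, rfl⟩)⟩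
    · exact ⟨_, _, _, _, _, _, _, _, _, _, _, _, T.rot.rot, Or.inr (Or.inl ⟨rfl, rfl, rfl⟩)⟩
    · exact ⟨_, _, _, _, _, _, _, _, _, _, _, _, T, Or.inr (Or.inr ⟨rfl, rfl, rfl⟩)⟩
  have hcA := (mem_others.1 T.memA).1
  have hcB := (mem_others.1 T.memB).1
  have hcC := (mem_others.1 T.memC).1
  have oA := hb.M_odd hw T.sA T.signA hcA
  have oB := hb.M_odd hw T.sB T.signB hcB
  have oC := hb.M_odd hw T.sC T.signC hcC
  have hrel := T.rel_mult hT.fam
  have hrw := T.rel_wt hb.hh hT.fam hT.hnw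
  have tA := T.sA.total
  have tB := T.sB.total
  have tC := T.sC.total
  obtain ⟨mA, hmA⟩ := exists_coef hb.hh hb.zero hb.zero T.sA hcA
  obtain ⟨mB, hmB⟩ := exists_coef hb.hh hb.zero hb.zero T.sB hcB
  obtain ⟨mC, hmC⟩ := exists_coef hb.hh hb.zero hb.zero T.sC hcC
  have hd0 : dia (1 : ZMod 19) 1 = 0 := by rw [dia, if_neg (by rw [div_one]; exact neg_one_notMem)]
  have hd1 : dia (1 : ZMod 19) (-1) = 1 := by rw [dia, if_pos (by rw [neg_neg, div_one]; exact one_mem_rts)]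
  have hne1 : (-1 : ZMod 19) ≠ 0 := by decide
  have hc11 : ∀ {χ : IrrCharacter G} {σ : ℤ} {m : ℕ}, (∀ a c : ZMod 19, a ≠ 0 → c ≠ 0 →
      classInner (pf F F a c) (χ : G → ℂ) = (m : ℂ) + (σ : ℂ) * (dia a c : ℂ)) →
      classInner (pf F F 1 1) (χ : G → ℂ) = m := fun {χ σ m} hm => by
    rw [hm 1 1 one_ne_zero one_ne_zero, hd0, Int.cast_zero, mul_zero, add_zero]
  have hd : ∀ {χ : IrrCharacter G} {σ : ℤ} {m : ℕ}, (∀ a c : ZMod 19, a ≠ 0 → c ≠ 0 →
      classInner (pf F F a c) (χ : G → ℂ) = (m : ℂ) + (σ : ℂ) * (dia a c : ℂ)) →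
      ∃ k : ℕ, classInner (pf F F 1 (-1)) (χ : G → ℂ) = k ∧ (k : ℤ) = m + σ := by
    intro χ σ m hm
    obtain ⟨k, hk⟩ := classInner_char_nat (isCharacter_pf (F₁ := F) (F₂ := F) 1 (-1)) (isCharacter_of_irr χ.2)
    refine ⟨k, hk, ?_⟩
    have h1 := hk.symm.trans (hm 1 (-1) one_ne_zero hne1)
    rw [hd1, Int.cast_one, mul_one] at h1
    have h2 : ((k : ℤ) : ℂ) = (((m : ℤ) + σ : ℤ) : ℂ) := by push_cast; exact h1
    exact_mod_cast h2
  obtain ⟨kA, hkA, ekA⟩ := hd hmA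
  obtain ⟨kB, hkB, ekB⟩ := hd hmB
  obtain ⟨kC, hkC, ekC⟩ := hd hmC
  have hsum := hT.sum_coef hb.zero hb.zero T (hc11 hmA) (hc11 hmB) (hc11 hmC)
  have hsub : ({A, B, C} : Finset (IrrCharacter G)) ⊆ others F0 W := fun χ hχ => by
    simp only [mem_insert, mem_singleton] at hχ
    rcases hχ with rfl | rfl | rfl; exacts [T.memA, T.memB, T.memC]
  let pick : ℕ → ℕ → ℕ → IrrCharacter G → ℕ := fun i j k χ => if χ = A then i else if χ = B then j else k
  have hslot : ∀ (c' : ZMod 19), (c' = 1 ∨ c' = -1) → ∀ iA iB iC : ℕ,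
      classInner (pf F F 1 c') (A : G → ℂ) = iA → classInner (pf F F 1 c') (B : G → ℂ) = iB →
      classInner (pf F F 1 c') (C : G → ℂ) = iC → ∀ u : ZMod 3,
      (if c' = 1 then 3 else 2) * nw u + (iA * vA u + (iB * vB u + iC * vC u)) ≤
        (if c' = 1 then 4 else 5) + (if u = 0 then 1 else 0) := by
    intro c' hc' iA iB iC hiA hiB hiC u
    have h1 := hT.slot hb.hh hb.zero hb.zero hc' {A, B, C} hsub (pick iA iB iC)
      (fun χ u => pick (vA u) (vB u) (vC u) χ) (fun χ hχ => by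
        simp only [mem_insert, mem_singleton] at hχ
        rcases hχ with rfl | rfl | rfl
        · simpa [pick] using hiA
        · simpa [pick, T.neAB.symm] using hiB
        · simpa [pick, T.neAC.symm, T.neBC.symm] using hiC)
      (fun χ hχ u => by
        simp only [mem_insert, mem_singleton] at hχ
        rcases hχ with rfl | rfl | rfl
        · simpa [pick] using T.sA.wts u
        · simpa [pick, T.neAB.symm] using T.sB.wts u
        · simpa [pick, T.neAC.symm, T.neBC.symm] using T.sC.wts u) u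
    rw [Finset.sum_insert (by simp [T.neAB, T.neAC]), Finset.sum_pair T.neBC] at h1
    simpa [pick, T.neAB.symm, T.neAC.symm, T.neBC.symm] using h1
  have s0 := hslot 1 (Or.inl rfl) mA mB mC (hc11 hmA) (hc11 hmB) (hc11 hmC)
  have s1 := hslot (-1) (Or.inr rfl) kA kB kC hkA hkB hkC
  have hne : (-1 : ZMod 19) ≠ 1 := by decide
  simp only [if_pos] at s0
  simp only [if_neg hne] at s1
  have z1 : ¬ (1 : ZMod 3) = 0 := by decide
  have z2 : ¬ (2 : ZMod 3) = 0 := by decide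
  have s00 := s0 0
  have s01 := s0 1
  have s02 := s0 2
  have s10 := s1 0
  have s11 := s1 1
  have s12 := s1 2
  rw [if_pos rfl] at s00 s10
  rw [if_neg z1] at s01 s11
  rw [if_neg z2] at s02 s12
  have w0 := hrw 0
  have w1 := hrw 1
  have w2 := hrw 2
  rcases hord with ⟨rfl, rfl⟩ | ⟨rfl, rfl, rfl⟩ | ⟨rfl, rfl, rfl⟩
  swap
  · -- one positive sign
    have k0 : 2 * vA 0 ≤ mA * vA 0 := Nat.mul_le_mul_right _ (by omega)
    omega
  swap
  · omega
  obtain ⟨k, hk⟩ := hb.center_two_pow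
  obtain ⟨g, hg, hg1⟩ := exists_invol hb.perfect ζ hb.faith hk (hb.center_large hw hk)
  have hg2 : g * g ∈ Subgroup.center G := by rw [hg1]; exact one_mem _
  have hgp := not_dvd_of_square hb.hH D hg2
  have hW2 : W ⟨g * g, hg2⟩ = 1 := by
    rw [show (⟨g * g, hg2⟩ : Subgroup.center G) = 1 from Subtype.ext hg1, map_one]
  have hn13 : n = 1 ∨ n = 3 := by omega
  rcases T.signC with rfl | rfl
  · -- all three positive
    have hn3 : n = 3 := by omega
    subst hn3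
    obtain ⟨rfl, rfl, rfl⟩ : mA = 0 ∧ mB = 0 ∧ mC = 0 := by omega
    obtain ⟨N, hN, hN7⟩ := norm_le hb hw hT (fun u => by
      have hu : u = 0 ∨ u = 1 ∨ u = 2 := by revert u; decide
      rcases hu with rfl | rfl | rfl <;> omega) T (hc11 hmA) (hc11 hmB) (hc11 hmC) (by simp)
    have := le_norm hM hb hN
    omega
  -- signs `+ + -`
  obtain ⟨rA, hrA, hA1, hA2, hA4⟩ := hb.invol T.sA (by omega) hcA hg hg2 hW2
  obtain ⟨rB, hrB, hB1, hB2, hB4⟩ := hb.invol T.sB (by omega) hcB hg hg2 hW2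
  obtain ⟨rC, hrC, hC1, hC2, hC4⟩ := hb.invol T.sC (by omega) hcC hg hg2 hW2
  obtain ⟨f, hf, hf1, hf2, hf4⟩ := hb.invol_fam hn hT.fam hg hg2 hW2
  have e1 := T.reg g hgp
  have e2 := T.triple g hg2 hgp
  rw [hrA, hrB, hrC, hf] at e1 e2
  rw [T.sA.one, T.sB.one, T.sC.one, fam_one hT.fam] at e2
  have e1' : rA + rB = rC + f := by
    have h' : ((rA + rB : ℤ) : ℂ) = ((rC + f : ℤ) : ℂ) := by push_cast at e1 ⊢; linear_combination e1
    exact_mod_cast h'
  have e2' : (rA : ℚ) ^ 2 / (19 * MA + 1) + (rB : ℚ) ^ 2 / (19 * MB + 1) =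
      (rC : ℚ) ^ 2 / (19 * MC - 1) + (f : ℚ) ^ 2 / (19 * n + 3) := by
    apply (Rat.cast_injective (α := ℂ))
    push_cast at e2 ⊢
    rw [← e2]
    ring
  rcases hn13 with rfl | rfl
  · -- one fixed point
    have kA1 : vA 0 + vA 1 + vA 2 ≤ kA * vA 0 + kA * vA 1 + kA * vA 2 := by
      rw [← Nat.mul_add, ← Nat.mul_add]; exact Nat.le_mul_of_pos_left _ (by omega)
    have kB1 : vB 0 + vB 1 + vB 2 ≤ kB * vB 0 + kB * vB 1 + kB * vB 2 := by
      rw [← Nat.mul_add, ← Nat.mul_add]; exact Nat.le_mul_of_pos_left _ (by omega)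
    have hle : MA + MB ≤ 12 := by omega
    have hMC : MA + MB = MC + 1 := by omega
    exact arith_one oA oB hle hMC e1' hB1 hB2 hB4 hf1 hf2 hf4 (by norm_num at e2' ⊢; exact e2')
  -- three fixed points
  have hnw1 : nw 1 = 1 := by omega
  have hnw2 : nw 2 = 1 := by omega
  rw [hnw0] at s00
  rw [hnw1] at s01
  rw [hnw2] at s02
  have hall : ∀ u : ZMod 3, nw u = 1 := fun u => by
    have hu : u = 0 ∨ u = 1 ∨ u = 2 := by revert u; decide
    rcases hu with rfl | rfl | rfl <;> assumption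
  have hmC1 : 1 ≤ mC := by omega
  rcases (show mA = 0 ∨ mB = 0 ∨ (1 ≤ mA ∧ 1 ≤ mB) by omega) with hz | hz | ⟨hz, hz'⟩
  · subst hz
    exact pm_three hM hb hw hT hall T.swap (hc11 hmB) (hc11 hmA) (hc11 hmC) (by omega) hmC1
      ⟨by omega, by omega, by omega⟩ g hg hg2 hgp hW2
  · subst hz
    exact pm_three hM hb hw hT hall T (hc11 hmA) (hc11 hmB) (hc11 hmC) (by omega) hmC1
      ⟨by omega, by omega, by omega⟩ g hg hg2 hgp hW2
  · have p1 : vA 1 + vB 1 ≤ mA * vA 1 + mB * vB 1 :=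
      Nat.add_le_add (Nat.le_mul_of_pos_left _ hz) (Nat.le_mul_of_pos_left _ hz')
    omega

end CfsgLib.LinearSmall.Nineteen
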