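import Cfsg.Agent.Lib.LinearSmall.Nineteen.Products

/-!
# The three characters outside a family with nonzero value at `x`
-/

namespace CfsgLib.LinearSmall.Nineteen

open Cfsg CfsgLib.Blocks CfsgLib.Blocks.DefectOne CfsgLib.CharTheory CfsgLib.CharTheory.SmallDegree
open CfsgLib.SmallSylow CfsgLib.FeitSmall Finset
open scoped ComplexConjugate

set_option linter.unusedVariables false
set_option linter.style.haveILetI false
set_option linter.unusedSectionVars false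

universe u

variable {G : Type u} [Group G] [Fintype G] {P : Sylow 19 G} {x h : G} {D : Data P x 3 6} {a₀ : ZMod 19}

/-- The shape of a character outside the families. -/
structure Sh (x h : G) (χ : IrrCharacter G) (σ : ℤ) (M : ℕ) (v : ZMod 3 → ℕ) : Prop where
  zero : mult x (χ : G → ℂ) (0 : ZMod 19) = (M : ℂ) + σ
  rest : ∀ z : ZMod 19, z ≠ 0 → mult x (χ : G → ℂ) z = M
  at_x : (χ : G → ℂ) x = σ
  one : (χ : G → ℂ) 1 = (19 : ℂ) * M + σ
  wts : ∀ u : ZMod 3, wt x h 19 (χ : G → ℂ) u = v u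

theorem exists_sh {W : Subgroup.center G →* ℂ} {F : ZMod 19 → IrrCharacter G} {n : ℕ} {ε : ℤ}
    (hh : Gen x 3 h a₀) (hF : Fam D W F n ε) {χ : IrrCharacter G} (hχ : χ ∈ others F W) :
    ∃ σ M v, Sh x h χ σ M v := by
  obtain ⟨σ, M, h1, h2, h3, h4⟩ := others_shape hF hχ
  choose v hv using fun u : ZMod 3 => hh.wt_nat D (isCharacter_of_irr χ.2) u
  exact ⟨σ, M, v, h1, h2, h3, by exact_mod_cast h4, hv⟩

theorem Sh.total {χ : IrrCharacter G} {σ : ℤ} {M : ℕ} {v : ZMod 3 → ℕ} (hs : Sh x h χ σ M v) :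
    (v 0 : ℤ) + v 1 + v 2 = M + σ := by
  have h1 := sum_wt (x := x) (h := h) (p := 19) (e := 3) (χ : G → ℂ)
  rw [hs.zero, Finset.sum_congr rfl fun u _ => hs.wts u] at h1
  have h2 : ((∑ u, v u : ℕ) : ℂ) = (((M : ℤ) + σ : ℤ) : ℂ) := by rw [Nat.cast_sum, h1]; push_cast; rfl
  rw [sum_three_zmod] at h2
  exact_mod_cast h2

/-- The determinant of the element of order three is one. -/
theorem det_weights (hG : commutator G = ⊤) (hh : Gen x 3 h a₀) (χ : IrrCharacter G) {v : ZMod 3 → ℕ} {k : ℕ}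
    (hv : ∀ u : ZMod 3, wt x h 19 (χ : G → ℂ) u = v u)
    (hk : (χ : G → ℂ) 1 = ((v 0 + v 1 + v 2 : ℕ) : ℂ) + 3 * k) : v 1 % 3 = v 2 % 3 := by
  classical
  let φ : Multiplicative (ZMod 3) →* G :=
    { toFun := fun c => hq h c.toAdd
      map_one' := hq_zero
      map_mul' := fun a b => hq_add hh _ _ }
  obtain ⟨d, R, -, hRχ⟩ := χ.2
  let lam : ZMod 3 → (Multiplicative (ZMod 3) →* ℂˣ) := fun u => MonoidHom.toHomUnits
    { toFun := fun c => psiE 3 (u * c.toAdd)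
      map_one' := by rw [toAdd_one, mul_zero, AddChar.map_zero_eq_one]
      map_mul' := fun a b => by rw [toAdd_mul, mul_add, AddChar.map_add_eq_mul] }
  have hlam : ∀ u (c : Multiplicative (ZMod 3)), ((lam u c : ℂˣ) : ℂ) = psiE 3 (u * c.toAdd) := fun _ _ => rfl
  have hlc : ∀ u, IsCharacter (Multiplicative (ZMod 3)) (fun c => ((lam u c : ℂˣ) : ℂ)) := fun u =>
    isCharacter_of_irr (isIrrCharacter_linear (lam u))
  have hsplit : (Representation.character (R.comp φ : Representation ℂ (Multiplicative (ZMod 3)) (Fin d → ℂ))) =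
      ∑ u : ZMod 3, ((v u + k : ℕ) : ℂ) • fun c => ((lam u c : ℂˣ) : ℂ) := by
    funext c
    show R.character (hq h c.toAdd) = _
    rw [hRχ, Finset.sum_apply, Finset.sum_congr rfl fun u _ => show
      (((v u + k : ℕ) : ℂ) • fun c => ((lam u c : ℂˣ) : ℂ)) c =
        wt x h 19 (χ : G → ℂ) u * psiE 3 (u * c.toAdd) + (k : ℂ) * psiE 3 (u * c.toAdd) by
      rw [Pi.smul_apply, smul_eq_mul, hlam, hv, Nat.cast_add, add_mul],
      Finset.sum_add_distrib, ← Finset.mul_sum, sum_psiE]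
    rcases eq_or_ne c.toAdd 0 with h0 | h0
    · rw [h0, hq_zero, if_pos rfl, hk, Finset.sum_congr rfl fun u _ => show
        wt x h 19 (χ : G → ℂ) u * psiE 3 (u * 0) = (v u : ℂ) by
          rw [mul_zero, AddChar.map_zero_eq_one, mul_one, hv], ← Nat.cast_sum, sum_three_zmod]
      push_cast
      ring
    · rw [if_neg h0, mul_zero, add_zero, wt_inversion _ h0]
  have h1 : detChar (Representation.character (R.comp φ : Representation ℂ (Multiplicative (ZMod 3)) (Fin d → ℂ)))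
      (Multiplicative.ofAdd (1 : ZMod 3)) = 1 := by
    rw [detChar_eq]
    show ((detHom (R.comp φ : Representation ℂ (Multiplicative (ZMod 3)) (Fin d → ℂ)) _ : ℂˣ) : ℂ) = 1
    rw [coe_detHom]
    exact det_eq_one_of_perfect hG R _
  rw [hsplit, detChar_sum _ _ (fun u _ => isCharacter_nsmul (hlc u) _)] at h1
  simp only [Finset.prod_apply] at h1
  rw [Finset.prod_congr rfl fun u _ => show detChar (((v u + k : ℕ) : ℂ) • fun c => ((lam u c : ℂˣ) : ℂ))
      (Multiplicative.ofAdd (1 : ZMod 3)) = psiE 3 ((v u + k) • u) by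
    rw [detChar_nsmul (hlc u), Pi.pow_apply, detChar_linear]
    show ((lam u (Multiplicative.ofAdd (1 : ZMod 3)) : ℂˣ) : ℂ) ^ (v u + k) = _
    rw [hlam, toAdd_ofAdd, mul_one, ← AddChar.map_nsmul_eq_pow], ← AddChar.map_zero_eq_one (psiE 3)] at h1
  rw [show (univ : Finset (ZMod 3)) = {0, 1, 2} from by decide, Finset.prod_insert (by decide),
    Finset.prod_insert (by decide), Finset.prod_singleton, ← AddChar.map_add_eq_mul,
    ← AddChar.map_add_eq_mul] at h1
  have h2 := ZMod.injective_stdAddChar h1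
  simp only [nsmul_eq_mul, mul_zero, zero_add, mul_one] at h2
  have h3 : ((v 1 + k + 2 * (v 2 + k) : ℕ) : ZMod 3) = 0 := by push_cast at h2 ⊢; linear_combination h2
  rw [ZMod.natCast_eq_zero_iff] at h3
  omega

/-- The three characters. -/
structure Tri (D : Data P x 3 6) (h : G) (W : Subgroup.center G →* ℂ) (F : ZMod 19 → IrrCharacter G)
    (A B C : IrrCharacter G) (a b c : ℤ) (MA MB MC : ℕ) (vA vB vC : ZMod 3 → ℕ) : Prop where
  sA : Sh x h A a MA vA
  sB : Sh x h B b MB vB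
  sC : Sh x h C c MC vC
  memA : A ∈ others F W
  memB : B ∈ others F W
  memC : C ∈ others F W
  neAB : A ≠ B
  neAC : A ≠ C
  neBC : B ≠ C
  signA : a = 1 ∨ a = -1
  signB : b = 1 ∨ b = -1
  signC : c = 1 ∨ c = -1
  rest : ∀ χ ∈ others F W, χ ≠ A → χ ≠ B → χ ≠ C → (χ : G → ℂ) x = 0
  reg : ∀ g : G, ¬ 19 ∣ orderOf g →
    (a : ℂ) * (A : G → ℂ) g + (b : ℂ) * (B : G → ℂ) g + (c : ℂ) * (C : G → ℂ) g = (F 1 : G → ℂ) g
  triple : ∀ g : G, g * g ∈ Subgroup.center G → ¬ 19 ∣ orderOf g →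
    (a : ℂ) * ((A : G → ℂ) g ^ 2 / (A : G → ℂ) 1) + (b : ℂ) * ((B : G → ℂ) g ^ 2 / (B : G → ℂ) 1) +
      (c : ℂ) * ((C : G → ℂ) g ^ 2 / (C : G → ℂ) 1) = (F 1 : G → ℂ) g ^ 2 / (F 1 : G → ℂ) 1

variable {W : Subgroup.center G →* ℂ} {F : ZMod 19 → IrrCharacter G} {A B C : IrrCharacter G} {a b c : ℤ}
  {MA MB MC : ℕ} {vA vB vC : ZMod 3 → ℕ}

theorem Tri.swap (T : Tri D h W F A B C a b c MA MB MC vA vB vC) :
    Tri D h W F B A C b a c MB MA MC vB vA vC where
  sA := T.sB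
  sB := T.sA
  sC := T.sC
  memA := T.memB
  memB := T.memA
  memC := T.memC
  neAB := T.neAB.symm
  neAC := T.neBC
  neBC := T.neAC
  signA := T.signB
  signB := T.signA
  signC := T.signC
  rest χ hχ h1 h2 h3 := T.rest χ hχ h2 h1 h3
  reg g hg := by rw [← T.reg g hg]; ring
  triple g hg hg' := by rw [← T.triple g hg hg']; ring

theorem Tri.rot (T : Tri D h W F A B C a b c MA MB MC vA vB vC) :
    Tri D h W F B C A b c a MB MC MA vB vC vA where
  sA := T.sB
  sB := T.sC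
  sC := T.sA
  memA := T.memB
  memB := T.memC
  memC := T.memA
  neAB := T.neBC
  neAC := T.neAB.symm
  neBC := T.neAC.symm
  signA := T.signB
  signB := T.signC
  signC := T.signA
  rest χ hχ h1 h2 h3 := T.rest χ hχ h3 h1 h2
  reg g hg := by rw [← T.reg g hg]; ring
  triple g hg hg' := by rw [← T.triple g hg hg']; ring

/-- They exist; one of them may be prescribed. -/
theorem exists_tri (hH : Compl (P : Subgroup G) (Subgroup.center G)) (hh : Gen x 3 h a₀) {n : ℕ}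
    (hF : Fam D W F n 1) :
    ∃ A B C a b c MA MB MC vA vB vC, Tri D h W F A B C a b c MA MB MC vA vB vC := by
  classical
  have hex : ∀ χ : IrrCharacter G, ∃ (σ : ℤ) (M : ℕ) (v : ZMod 3 → ℕ), χ ∈ others F W → Sh x h χ σ M v := fun χ => by
    by_cases hχ : χ ∈ others F W
    · obtain ⟨σ, M, v, hs⟩ := exists_sh hh hF hχ
      exact ⟨σ, M, v, fun _ => hs⟩
    · exact ⟨0, 0, 0, fun h' => absurd h' hχ⟩
  choose σ M v hs using hex
  have hσ : ∀ χ ∈ others F W, (χ : G → ℂ) x = σ χ := fun χ hχ => (hs χ hχ).at_x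
  set S := (others F W).filter fun χ => σ χ ≠ 0 with hS
  have hsq : ∑ χ ∈ S, σ χ * σ χ = 3 := by
    rw [hS, Finset.sum_filter_of_ne (p := fun χ => σ χ ≠ 0) (fun χ _ hne (h0 : σ χ = 0) => hne (by rw [h0, mul_zero]))]
    exact_mod_cast others_sq hH hF σ hσ
  have hone : ∀ χ ∈ S, σ χ = 1 ∨ σ χ = -1 := by
    intro χ hχ
    have h0 := (mem_filter.1 hχ).2
    have h1 : σ χ * σ χ ≤ 3 := hsq ▸ Finset.single_le_sum (fun y _ => mul_self_nonneg (σ y)) hχ
    have h2 : -1 ≤ σ χ ∧ σ χ ≤ 1 := by constructor <;> nlinarith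
    omega
  have hcard : S.card = 3 := by
    rw [Finset.sum_congr rfl fun χ hχ => show σ χ * σ χ = 1 by
      rcases hone χ hχ with h' | h' <;> rw [h'] <;> norm_num, sum_const, nsmul_eq_mul, mul_one] at hsq
    exact_mod_cast hsq
  obtain ⟨A, B, C, hAB, hAC, hBC, hSeq⟩ := Finset.card_eq_three.1 hcard
  have hA : A ∈ S := by simp [hSeq]
  have hB : B ∈ S := by simp [hSeq]
  have hC : C ∈ S := by simp [hSeq]
  have hsum : ∀ φ : IrrCharacter G → ℂ, ∑ χ ∈ others F W, (σ χ : ℂ) * φ χ =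
      (σ A : ℂ) * φ A + (σ B : ℂ) * φ B + (σ C : ℂ) * φ C := by
    intro φ
    rw [← Finset.sum_filter_of_ne (p := fun χ => σ χ ≠ 0) (fun χ _ hne h0 => hne (by rw [h0]; simp)),
      ← hS, hSeq, Finset.sum_insert (by simp [hAB, hAC]), Finset.sum_pair hBC, add_assoc]
  refine ⟨A, B, C, σ A, σ B, σ C, M A, M B, M C, v A, v B, v C, hs A (mem_filter.1 hA).1,
    hs B (mem_filter.1 hB).1, hs C (mem_filter.1 hC).1, (mem_filter.1 hA).1, (mem_filter.1 hB).1,
    (mem_filter.1 hC).1, hAB, hAC, hBC, hone A hA, hone B hB, hone C hC, fun χ hχ h1 h2 h3 => ?_,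
    fun g hg => ?_, fun g hg hg' => ?_⟩
  · rw [hσ χ hχ, Int.cast_eq_zero]
    by_contra h0
    have : χ ∈ S := mem_filter.2 ⟨hχ, h0⟩
    simp [hSeq, h1, h2, h3] at this
  · rw [← hsum fun χ => (χ : G → ℂ) g, others_reg hH hF σ hσ hg, Int.cast_one, one_mul]
  · rw [← hsum fun χ => (χ : G → ℂ) g ^ 2 / (χ : G → ℂ) 1, others_triple hH hF neg_one_notMem σ hσ hg hg',
      Int.cast_one, one_mul]

theorem fam_one {n : ℕ} (hF : Fam D W F n 1) : (F 1 : G → ℂ) 1 = (19 : ℂ) * n + 3 := by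
  rw [← sum_mult (x := x) (p := 19) (F 1 : G → ℂ), Finset.sum_congr rfl fun z _ => hF.vals 1 one_ne_zero z,
    Finset.sum_add_distrib, ← Finset.mul_sum, sum_ind D.A one_ne_zero, sum_const, card_univ, ZMod.card,
    nsmul_eq_mul]
  push_cast
  ring

theorem Tri.rel_mult {n : ℕ} (hF : Fam D W F n 1) (T : Tri D h W F A B C a b c MA MB MC vA vB vC) :
    a * MA + b * MB + c * MC = n := by
  have h1 := T.reg 1 (by rw [orderOf_one]; norm_num)
  rw [T.sA.one, T.sB.one, T.sC.one, fam_one hF] at h1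
  have ha : (a : ℂ) * a = 1 := by rcases T.signA with h' | h' <;> rw [h'] <;> norm_num
  have hb : (b : ℂ) * b = 1 := by rcases T.signB with h' | h' <;> rw [h'] <;> norm_num
  have hc : (c : ℂ) * c = 1 := by rcases T.signC with h' | h' <;> rw [h'] <;> norm_num
  have h2 : ((a * MA + b * MB + c * MC : ℤ) : ℂ) = ((n : ℤ) : ℂ) := by
    push_cast
    linear_combination (1 / 19 : ℂ) * h1 - (1 / 19 : ℂ) * (ha + hb + hc)
  exact_mod_cast h2

theorem Tri.rel_wt {n : ℕ} {nw : ZMod 3 → ℕ} (hh : Gen x 3 h a₀) (hF : Fam D W F n 1)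
    (hnw : ∀ u, wt x h 19 (F 1 : G → ℂ) u = nw u)
    (T : Tri D h W F A B C a b c MA MB MC vA vB vC) (u : ZMod 3) :
    a * vA u + b * vB u + c * vC u = nw u + 1 := by
  have hr : ∑ j ∈ univ.erase (0 : ZMod 3), (F 1 : G → ℂ) (hq h j) * psiE 3 (-(u * j)) =
      (a : ℂ) * (∑ j ∈ univ.erase (0 : ZMod 3), (A : G → ℂ) (hq h j) * psiE 3 (-(u * j))) +
      (b : ℂ) * (∑ j ∈ univ.erase (0 : ZMod 3), (B : G → ℂ) (hq h j) * psiE 3 (-(u * j))) +
      (c : ℂ) * (∑ j ∈ univ.erase (0 : ZMod 3), (C : G → ℂ) (hq h j) * psiE 3 (-(u * j))) := by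
    rw [Finset.mul_sum, Finset.mul_sum, Finset.mul_sum, ← Finset.sum_add_distrib, ← Finset.sum_add_distrib]
    refine Finset.sum_congr rfl fun j _ => ?_
    rw [← T.reg _ (hh.regular D j)]
    ring
  have hwF := hnw u
  have hwA := T.sA.wts u
  have hwB := T.sB.wts u
  have hwC := T.sC.wts u
  rw [wt, hF.vals 1 one_ne_zero, if_neg (zero_div_notMem D.A 1), hr] at hwF
  rw [wt, T.sA.zero] at hwA
  rw [wt, T.sB.zero] at hwB
  rw [wt, T.sC.zero] at hwC
  have hm : (a : ℂ) * MA + (b : ℂ) * MB + (c : ℂ) * MC = (n : ℂ) := by exact_mod_cast T.rel_mult hF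
  have ha : (a : ℂ) * a = 1 := by rcases T.signA with h' | h' <;> rw [h'] <;> norm_num
  have hb : (b : ℂ) * b = 1 := by rcases T.signB with h' | h' <;> rw [h'] <;> norm_num
  have hc : (c : ℂ) * c = 1 := by rcases T.signC with h' | h' <;> rw [h'] <;> norm_num
  push_cast at hwA hwB hwC hwF
  have h2 : ((a * vA u + b * vB u + c * vC u : ℤ) : ℂ) = ((nw u + 1 : ℤ) : ℂ) := by
    push_cast
    linear_combination hwF - (a : ℂ) * hwA - (b : ℂ) * hwB - (c : ℂ) * hwC + (1 / 3 : ℂ) * hm +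
      (1 / 3 : ℂ) * (ha + hb + hc)
  exact_mod_cast h2

end CfsgLib.LinearSmall.Nineteen
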