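import Cfsg.Agent.Lib.LinearSmall.Nineteen.Principal

/-!
# The square of the central character is not trivial
-/

namespace CfsgLib.LinearSmall.Nineteen

open Cfsg CfsgLib.Blocks CfsgLib.Blocks.DefectOne CfsgLib.CharTheory CfsgLib.CharTheory.SmallDegree
open CfsgLib.SmallSylow CfsgLib.FeitSmall Finset
open scoped ComplexConjugate

set_option linter.unusedVariables false
set_option linter.style.haveILetI false
set_option linter.unusedSectionVars false
set_option maxHeartbeats 1000000

universe u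

variable {G : Type u} [Group G] [Fintype G] {P : Sylow 19 G} {x h : G} {D : Data P x 3 6} {a₀ : ZMod 19}
  {ζ : IrrCharacter G} {w : Subgroup.center G →* ℂ} {F : ZMod 19 → IrrCharacter G}

theorem conj_eq_self (hw : w * w = 1) : (starRingEnd ℂ).toMonoidHom.comp w = w := by
  refine MonoidHom.ext fun z => ?_
  have h1 : w z * w z = 1 := DFunLike.congr_fun hw z
  show (starRingEnd ℂ) (w z) = w z
  rw [norm_cen_one]
  exact inv_eq_of_mul_eq_one_right h1

/-- The vanishing of the weighted coefficients of a character. -/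
theorem Tri.sum_coef_of {W : Subgroup.center G →* ℂ} {F0 : ZMod 19 → IrrCharacter G} {n : ℕ}
    {A B C : IrrCharacter G} {a b c : ℤ} {MA MB MC : ℕ} {vA vB vC : ZMod 3 → ℕ}
    (hF : Fam D W F0 n 1) (T : Tri D h W F0 A B C a b c MA MB MC vA vB vC) {f : G → ℂ}
    (hf : IsCharacter G f) (hw : HasCen f W) (h1 : classInner f (F0 1 : G → ℂ) = 0)
    (hm : mult x f (0 : ZMod 19) = mult x f (1 : ZMod 19)) :
    (a : ℂ) * classInner f (A : G → ℂ) + (b : ℂ) * classInner f (B : G → ℂ) +
      (c : ℂ) * classInner f (C : G → ℂ) = 0 := by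
  classical
  have h0 : mult x f (0 : ZMod 19) - mult x f (1 : ZMod 19) = 0 := by rw [hm, sub_self]
  rw [mult_decomp (isClassFunction_char hf), mult_decomp (isClassFunction_char hf), ← Finset.sum_sub_distrib] at h0
  rw [← Finset.sum_subset (Finset.subset_univ ({A, B, C} : Finset (IrrCharacter G)))] at h0
  · rw [Finset.sum_insert (by simp [T.neAB, T.neAC]), Finset.sum_pair T.neBC, T.sA.zero, T.sB.zero,
      T.sC.zero, T.sA.rest 1 one_ne_zero, T.sB.rest 1 one_ne_zero, T.sC.rest 1 one_ne_zero] at h0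
    linear_combination h0
  · intro χ _ hχ
    simp only [mem_insert, mem_singleton, not_or] at hχ
    by_cases hz : classInner f (χ : G → ℂ) = 0
    · rw [hz]; ring
    have hcw := hw.of_inner χ hz
    by_cases hfam : χ ∈ others F0 W
    · obtain ⟨σ, M, hσ0, hσ1, hσx, -⟩ := others_shape hF hfam
      have hσ : (σ : ℂ) = 0 := hσx.symm.trans (T.rest χ hfam hχ.1 hχ.2.1 hχ.2.2)
      rw [hσ0, hσ1 1 one_ne_zero, hσ]
      ring
    · rw [mem_others, not_and] at hfam
      have hfam' := hfam hcw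
      push Not at hfam'
      obtain ⟨a', ha', rfl⟩ := hfam'
      rw [hF.vals a' ha', hF.vals a' ha', if_neg (zero_div_notMem D.A a')]
      by_cases hin : (1 : ZMod 19) / a' ∈ rts 19 3
      · exact absurd (by rw [(hF.eq_iff a' 1 ha' one_ne_zero).2 hin, h1]) hz
      · rw [if_neg hin]; ring

theorem half (z : ZMod 19) : z / 2 = z * 10 := by
  rw [div_eq_iff (by decide), mul_assoc, show (10 : ZMod 19) * 2 = 1 by decide, mul_one]

/-- The central character is not of order two. -/
theorem sq_ne_one [Fintype (P : Subgroup G)] [Fintype (cen (P : Subgroup G))] [Fintype (Subgroup.center G)]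
    {M : Ideal AlgInt} (hM : IsPModular 19 M) (hb : Base D h a₀ ζ w F) : w * w ≠ 1 := by
  classical
  intro hw
  obtain ⟨F0, n, nw, A, B, vA, vB, hT, hn0, hn1, hn2, T, a0, a1, a2, b0, b1, b2, ho, hA, hB, -⟩ :=
    principal hM hb
  have hne1 : (-1 : ZMod 19) ≠ 0 := by decide
  have hF := hb.zero.fam
  have hWe : w * (starRingEnd ℂ).toMonoidHom.comp w = w * w := by rw [conj_eq_self hw]
  have hcj : cj F 1 = F 1 := by
    have hcen : HasCen (cj F 1 : G → ℂ) w := by
      have h' := (hF.cen (-1) hne1).conj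
      rw [conj_eq_self hw] at h'
      exact h'
    have hsh : Shape x 3 (cj F 1 : G → ℂ) (1 : ZMod 19) 1 (-1) := by
      have h' := (hF.shape hne1).conj
      rw [neg_neg] at h'
      exact h'
    obtain ⟨-, -, b, hb0, hb'⟩ := fam_of_shape (by norm_num) hcen one_ne_zero hsh hF
    rw [hb']
    refine (hF.eq_iff b 1 hb0 one_ne_zero).2 ?_
    by_contra hin
    have h1 := hsh 1
    rw [hb', hF.vals b hb0, if_neg hin, if_pos (by rw [div_one]; exact one_mem_rts)] at h1
    norm_num at h1
  set f : G → ℂ := (F 1 : G → ℂ) with hfdef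
  have hfc : IsCharacter G f := isCharacter_of_irr (F 1).2
  have hpf : pf F (cj F) 1 1 = fun g => f g * f g := by funext g; simp only [pf, hcj, f]
  set S : G → ℂ := fun g => (f g ^ 2 + f (g * g)) / 2 with hSdef
  set L : G → ℂ := fun g => (f g ^ 2 - f (g * g)) / 2 with hLdef
  have hS : IsCharacter G S := isCharacter_symSq' hfc
  have hL : IsCharacter G L := isCharacter_altSq hfc
  have hSW : HasCen S (w * (starRingEnd ℂ).toMonoidHom.comp w) := fun g z => by
    rw [hWe]
    show (f (g * z) ^ 2 + f (g * z * (g * z))) / 2 = (w * w) z * ((f g ^ 2 + f (g * g)) / 2)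
    rw [show g * (z : G) * (g * z) = g * g * ((z * z : Subgroup.center G) : G) by
      rw [Subgroup.coe_mul, mul_assoc g (z : G) (g * z), ← mul_assoc (z : G) g (z : G),
        ← Subgroup.mem_center_iff.1 z.2 g]
      simp only [mul_assoc]]
    simp only [hfdef]
    rw [hF.cen 1 one_ne_zero g z, hF.cen 1 one_ne_zero (g * g) (z * z),
      MonoidHom.mul_apply, map_mul]
    ring
  choose S' hS' using fun χ : IrrCharacter G => classInner_char_nat hS (isCharacter_of_irr χ.2)
  choose L' hL' using fun χ : IrrCharacter G => classInner_char_nat hL (isCharacter_of_irr χ.2)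
  have hsplit : ∀ χ : IrrCharacter G, ∀ k : ℕ, classInner (pf F (cj F) 1 1) (χ : G → ℂ) = k → S' χ + L' χ = k := by
    intro χ k hk
    have h1 : ((S' χ + L' χ : ℕ) : ℂ) = (k : ℂ) := by
      push_cast
      rw [← hS' χ, ← hL' χ, ← classInner_add_left, ← hk, hpf]
      congr 1
      funext g
      show (f g ^ 2 + f (g * g)) / 2 + (f g ^ 2 - f (g * g)) / 2 = _
      ring
    exact_mod_cast h1
  have hf2 : ∀ z, mult x (pf F (cj F) 1 1) z = (19 : ℂ) - 6 + cc 19 3 1 1 z := fun z => by
    rw [hpf]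
    have h0 := (hF.shape (one_ne_zero (α := ZMod 19))).mul D.A (one_ne_zero (α := ZMod 19))
      (one_ne_zero (α := ZMod 19)) (hF.shape (one_ne_zero (α := ZMod 19))) z
    rw [h0]; push_cast; ring
  have hmS : ∀ z, mult x S z = (14 + cc 19 3 1 1 z - (if z / 2 ∈ rts 19 3 then 1 else 0)) / 2 := by
    intro z
    have e1 : mult x S z = (mult x (pf F (cj F) 1 1) z + mult x (fun g => f (g * g)) z) / 2 := by
      simp only [mult, hpf, hSdef]
      rw [← mul_add, ← Finset.sum_add_distrib, mul_div_assoc, Finset.sum_div]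
      congr 1
      refine Finset.sum_congr rfl fun k _ => ?_
      ring
    rw [e1, hf2, mult_sq D (by norm_num), hF.vals 1 one_ne_zero, div_one]
    push_cast
    ring
  obtain ⟨-, -, c0, cs1, -, -, -⟩ := cc_values
  have c00 : cc 19 3 (1 : ZMod 19) 1 0 = 0 := by decide
  have hi1 : ¬ (1 : ZMod 19) / 2 ∈ rts 19 3 := by rw [half]; decide
  have hbS1 : S' (F0 1) = 0 := by
    have h1 := hsplit (F0 1) 0 (by rw [hT.coef 1 1 1 one_ne_zero one_ne_zero one_ne_zero, c0])
    omega
  have hcoef : ∀ z : ZMod 19, z ≠ 0 →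
      2 * (S' (F0 z) : ℤ) = cc 19 3 1 1 z - (if z / 2 ∈ rts 19 3 then 1 else 0) := by
    intro z hz
    have h1 := hT.fam.coef (isClassFunction_char hS) hSW hz one_ne_zero
    rw [hS', hS', hbS1, hmS, hmS, c0, if_neg hi1] at h1
    have h2 : ((2 * (S' (F0 z) : ℤ) : ℤ) : ℂ) =
        (((cc 19 3 1 1 z : ℤ) - (if z / 2 ∈ rts 19 3 then 1 else 0) : ℤ) : ℂ) := by
      push_cast at h1 ⊢
      linear_combination -2 * h1
    exact_mod_cast h2
  have hsumS : ∑ z ∈ univ.erase (0 : ZMod 19), S' (F0 z) = 3 := by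
    have h1 : ∑ z ∈ univ.erase (0 : ZMod 19), (2 * (S' (F0 z) : ℤ)) = 6 := by
      rw [Finset.sum_congr rfl fun z hz => hcoef z (mem_erase.1 hz).1, Finset.sum_sub_distrib,
        ← Nat.cast_sum, cs1]
      have hk : ∑ z ∈ univ.erase (0 : ZMod 19), (if z / 2 ∈ rts 19 3 then (1 : ℤ) else 0) = 3 := by
        simp only [half]; decide
      rw [hk]; norm_num
    rw [← Finset.mul_sum, ← Nat.cast_sum] at h1
    omega
  have hsumL : ∑ z ∈ univ.erase (0 : ZMod 19), L' (F0 z) = 6 := by
    have h1 : ∑ z ∈ univ.erase (0 : ZMod 19), (S' (F0 z) + L' (F0 z)) = 9 := by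
      rw [← cs1]
      exact Finset.sum_congr rfl fun z hz => hsplit _ _
        (hT.coef 1 1 z one_ne_zero one_ne_zero (mem_erase.1 hz).1)
    rw [Finset.sum_add_distrib, hsumS] at h1
    omega
  have hone : ∀ j : ZMod 3, j ≠ 0 → f (hq h j) = 1 := fun j hj => by
    rw [hfdef, hb.zero.vals 1 one_ne_zero j hj, zero_mul, AddChar.map_zero_eq_one]
  have hdbl : ∀ j : ZMod 3, j ≠ 0 → f (hq h j * hq h j) = 1 := fun j hj => by
    rw [← hq_add hb.hh]
    exact hone _ (fun h0 => hj (by revert j; decide))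
  have hm0 : mult x S (0 : ZMod 19) = 7 := by
    rw [hmS, c00, if_neg (zero_div_notMem D.A 2)]; norm_num
  have hm1 : mult x S (1 : ZMod 19) = 7 := by rw [hmS, c0, if_neg hi1]; norm_num
  have hWS : ∀ u : ZMod 3, wt x h 19 S u = ((2 + (if u = 0 then 1 else 0) : ℕ) : ℂ) := fun u => by
    rw [wt_of_values S 0 (fun j hj => by
      show (f (hq h j) ^ 2 + f (hq h j * hq h j)) / 2 = _
      rw [hone j hj, hdbl j hj, zero_mul, AddChar.map_zero_eq_one]; norm_num), hm0]
    split_ifs <;> norm_num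
  have hWL : ∀ u : ZMod 3, wt x h 19 L u = ((2 : ℕ) : ℂ) := fun u => by
    rw [wt, Finset.sum_eq_zero (fun j hj => by
      show (f (hq h j) ^ 2 - f (hq h j * hq h j)) / 2 * _ = 0
      rw [hone j (mem_erase.1 hj).1, hdbl j (mem_erase.1 hj).1]; ring), add_zero]
    have hL0 : mult x L (0 : ZMod 19) = mult x (pf F (cj F) 1 1) (0 : ZMod 19) - mult x S (0 : ZMod 19) := by
      simp only [mult, hpf, hSdef, hLdef]
      rw [← mul_sub, ← Finset.sum_sub_distrib]
      congr 1
      refine Finset.sum_congr rfl fun k _ => ?_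
      ring
    rw [hL0, hf2, c00, hm0]
    norm_num
  -- the two slots
  have sL := hT.fam.slot hb.hh hL (0 : ZMod 3) (fun z => L' (F0 z)) (fun z _ => hL' (F0 z)) (hT.hnw 0) (hWL 0)
    {A} L' (fun _ => vA 0) (fun χ hχ => by rw [mem_singleton.1 hχ]; exact (mem_others.1 T.memB).2)
    (fun χ hχ => hL' χ) (fun χ hχ => by rw [mem_singleton.1 hχ]; exact T.sB.wts 0)
  rw [hsumL, hn0, a0, Finset.sum_singleton] at sL
  have hA' := hsplit A 1 (by rw [hA, Nat.cast_one])
  have sS := hT.fam.slot hb.hh hS (1 : ZMod 3) (fun z => S' (F0 z)) (fun z _ => hS' (F0 z)) (hT.hnw 1) (hWS 1)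
    {A, B} S' (fun χ => if χ = A then vA 1 else vB 1)
    (fun χ hχ => by
      simp only [mem_insert, mem_singleton] at hχ
      rcases hχ with rfl | rfl; exacts [(mem_others.1 T.memB).2, (mem_others.1 T.memC).2])
    (fun χ hχ => hS' χ) (fun χ hχ => by
      simp only [mem_insert, mem_singleton] at hχ
      rcases hχ with rfl | rfl
      · simpa using T.sB.wts 1
      · simpa [T.neBC.symm] using T.sC.wts 1)
  rw [hsumS, hn1, if_neg (show ¬(1 : ZMod 3) = 0 by decide), Finset.sum_pair T.neBC, if_pos rfl,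
    if_neg T.neBC.symm, a1, b1] at sS
  have hsum := T.sum_coef_of hT.fam hS hSW (by rw [hS', hbS1, Nat.cast_zero]) (hm0.trans hm1.symm)
  have hone0 := hsplit (oneC G) 0 (by rw [ho, Nat.cast_zero])
  rw [hS', hS', hS'] at hsum
  have h2 : ((S' (oneC G) : ℤ) + S' A - S' B : ℤ) = 0 := by
    have : (((S' (oneC G) : ℤ) + S' A - S' B : ℤ) : ℂ) = 0 := by push_cast at hsum ⊢; linear_combination hsum
    exact_mod_cast this
  omega

end CfsgLib.LinearSmall.Nineteen
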