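import Cfsg.Agent.Lib.FeitSmall.Main
import Cfsg.Agent.Lib.Blocks.DefectZeroCount

/-!
# Column sums over one central character
-/

namespace CfsgLib.LinearSmall.Nineteen

open Cfsg CfsgLib.Blocks CfsgLib.Blocks.DefectOne CfsgLib.CharTheory CfsgLib.CharTheory.SmallDegree
open CfsgLib.SmallSylow CfsgLib.FeitSmall Finset
open scoped ComplexConjugate

set_option linter.unusedVariables false
set_option linter.style.haveILetI false
set_option linter.unusedSectionVars false

universe u

variable {p : ℕ} [Fact p.Prime] {G : Type u} [Group G] [Fintype G] {P : Sylow p G} {x : G} {e t : ℕ}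

/-- The characters over a central character. -/
noncomputable def world (w : Subgroup.center G →* ℂ) : Finset (IrrCharacter G) := by
  classical exact univ.filter fun χ => HasCen (χ : G → ℂ) w

theorem mem_world {w : Subgroup.center G →* ℂ} {χ : IrrCharacter G} :
    χ ∈ world w ↔ HasCen (χ : G → ℂ) w := by
  simp [world]

theorem cen_one {χ : IrrCharacter G} {w : Subgroup.center G →* ℂ} (h : HasCen (χ : G → ℂ) w)
    (z : Subgroup.center G) : (χ : G → ℂ) z = w z * (χ : G → ℂ) 1 := by
  rw [← h 1 z, one_mul]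

theorem sum_center [Fintype (Subgroup.center G)] (w w' : Subgroup.center G →* ℂ)
    [Decidable (w' = w)] :
    ∑ z, w z * conj (w' z) = if w' = w then (Nat.card (Subgroup.center G) : ℂ) else 0 := by
  split_ifs with h
  · subst h
    rw [Finset.sum_congr rfl fun z _ => show w' z * conj (w' z) = 1 by
      rw [norm_cen_one, mul_inv_cancel₀ (fun h0 => by
        have := congrArg w' (mul_inv_cancel z)
        rw [map_mul, h0, zero_mul, map_one] at this
        exact zero_ne_one this)],
      sum_const, card_univ, nsmul_eq_mul, mul_one, Nat.card_eq_fintype_card]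
  · obtain ⟨c, hc⟩ : ∃ c, w c * conj (w' c) ≠ 1 := by
      by_contra hno
      push Not at hno
      refine h (MonoidHom.ext fun z => ?_)
      have h1 := hno z
      rw [norm_cen_one] at h1
      have h0 : w' z ≠ 0 := fun h0 => by
        rw [h0, inv_zero, mul_zero] at h1; exact zero_ne_one h1
      exact ((mul_inv_eq_one₀ h0).1 h1).symm
    have h1 : (w c * conj (w' c)) * ∑ z, w z * conj (w' z) = ∑ z, w z * conj (w' z) := by
      rw [Finset.mul_sum]
      exact Fintype.sum_equiv (Equiv.mulLeft c) _ _ fun z => by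
        rw [Equiv.coe_mulLeft, map_mul, map_mul, map_mul]; ring
    by_contra hS
    exact hc (mul_right_cancel₀ hS (h1.trans (one_mul _).symm))

/-- Picking out one central character. -/
theorem world_sum (w : Subgroup.center G →* ℂ) (y : G) (φ : IrrCharacter G → ℂ) (c : ℂ)
    (h1 : ∑ χ : IrrCharacter G, φ χ * conj ((χ : G → ℂ) y) = c)
    (hz : ∀ z : Subgroup.center G, z ≠ 1 → ∑ χ : IrrCharacter G, φ χ * conj ((χ : G → ℂ) (y * z)) = 0) :
    (Nat.card (Subgroup.center G) : ℂ) * ∑ χ ∈ world w, φ χ * conj ((χ : G → ℂ) y) = c := by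
  classical
  letI : Fintype (Subgroup.center G) := Fintype.ofFinite _
  have h : ∑ z : Subgroup.center G, w z * ∑ χ : IrrCharacter G, φ χ * conj ((χ : G → ℂ) (y * z)) = c := by
    rw [Finset.sum_eq_single (1 : Subgroup.center G) (fun z _ hne => by rw [hz z hne, mul_zero])
      (fun h0 => absurd (mem_univ _) h0), map_one, one_mul, Subgroup.coe_one, mul_one, h1]
  simp only [Finset.mul_sum] at h
  rw [Finset.sum_comm] at h
  rw [← h, world, Finset.mul_sum, Finset.sum_filter]
  refine Finset.sum_congr rfl fun χ _ => ?_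
  obtain ⟨w', hw'⟩ := exists_hasCen χ
  rw [Finset.sum_congr rfl fun z _ => show w z * (φ χ * conj ((χ : G → ℂ) (y * z))) =
      w z * conj (w' z) * (φ χ * conj ((χ : G → ℂ) y)) by rw [hw' y z, map_mul]; ring,
    ← Finset.sum_mul, sum_center]
  by_cases hχ : HasCen (χ : G → ℂ) w
  · rw [if_pos hχ, if_pos (hw'.unique hχ)]
  · rw [if_neg hχ, if_neg (fun e : w' = w => hχ (e ▸ hw')), zero_mul]

theorem center_pow_p (hH : Compl (P : Subgroup G) (Subgroup.center G)) (D : Data P x e t)
    {z : Subgroup.center G} (hz : (z : G) ^ p = 1) : z = 1 := by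
  by_contra hne
  have ho : orderOf z = p := orderOf_eq_prime (Subtype.ext (by simpa using hz)) hne
  have hd : p ∣ Nat.card (Subgroup.center G) := ho ▸ orderOf_dvd_natCard z
  refine D.sq_not_dvd ?_
  have h2 : Nat.card P * Nat.card (Subgroup.center G) ∣ Nat.card G := by
    show Nat.card (P : Subgroup G) * _ ∣ _
    rw [hH.card]; exact Subgroup.card_subgroup_dvd_card _
  rw [D.hP] at h2
  exact (by rw [pow_two]; exact mul_dvd_mul_left p hd : p ^ 2 ∣ p * Nat.card (Subgroup.center G)).trans h2

theorem centralizer_x (D : Data P x e t) :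
    Subgroup.centralizer ({x} : Set G) = cen (P : Subgroup G) := by
  refine le_antisymm (fun g hg => ?_) (fun g hg => ?_)
  · refine D.setup.free D.mem D.ne (g := g) ?_
    rw [Subgroup.mem_centralizer_singleton_iff.1 hg, mul_inv_cancel_right]
  · rw [Subgroup.mem_centralizer_singleton_iff]
    exact (Subgroup.mem_centralizer_iff.1 hg x D.mem).symm

/-- The squares over one central character. -/
theorem sum_sq (hH : Compl (P : Subgroup G) (Subgroup.center G)) (D : Data P x e t)
    (w : Subgroup.center G →* ℂ) :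
    ∑ χ ∈ world w, (χ : G → ℂ) x * conj ((χ : G → ℂ) x) = (p : ℂ) := by
  classical
  have hc : (Nat.card (Subgroup.centralizer ({x} : Set G)) : ℂ) =
      (Nat.card (Subgroup.center G) : ℂ) * p := by
    rw [centralizer_x D, ← hH.card, Nat.cast_mul]
    rw [show Nat.card (P : Subgroup G) = p from D.hP, mul_comm]
  have h := world_sum w x (fun χ => (χ : G → ℂ) x) _ ((sum_irr_mul_conj x x).trans (if_pos (IsConj.refl _)))
    fun z hz => by
      rw [sum_irr_mul_conj, if_neg]
      intro hcj
      obtain ⟨k, hk⟩ := isConj_iff.1 hcj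
      refine hz (center_pow_p hH D ?_)
      have h1 : (x * z) ^ p = 1 := by rw [← hk, conj_pow, D.pow, mul_one, mul_inv_cancel]
      rwa [(show Commute x (z : G) from Subgroup.mem_center_iff.1 z.2 x).mul_pow, D.pow, one_mul] at h1
  rw [hc] at h
  exact mul_left_cancel₀ (Nat.cast_ne_zero.2 Nat.card_pos.ne') h

/-- Orthogonality to a regular element. -/
theorem sum_reg (hH : Compl (P : Subgroup G) (Subgroup.center G)) (D : Data P x e t)
    (w : Subgroup.center G →* ℂ) {g : G} (hg : ¬ p ∣ orderOf g) :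
    ∑ χ ∈ world w, (χ : G → ℂ) g * conj ((χ : G → ℂ) x) = 0 := by
  classical
  have hno : ∀ z : Subgroup.center G, ¬ IsConj g (x * z) := fun z hcj => by
    obtain ⟨k, hk⟩ := isConj_iff.1 hcj
    have ho : orderOf (x * (z : G)) = orderOf g := by
      rw [← hk]
      exact orderOf_injective (MulAut.conj k).toMonoidHom (MulAut.conj k).injective g
    apply hg
    rw [← ho]
    have h1 : (x * (z : G)) ^ orderOf (x * (z : G)) = 1 := pow_orderOf_eq_one _
    rw [(show Commute x (z : G) from Subgroup.mem_center_iff.1 z.2 x).mul_pow] at h1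
    by_contra hnd
    set m := orderOf (x * (z : G))
    have h2 : (x ^ m) ∈ (P : Subgroup G) ⊓ Subgroup.center G := by
      refine Subgroup.mem_inf.2 ⟨pow_mem D.mem m, ?_⟩
      rw [eq_inv_of_mul_eq_one_left h1]
      exact inv_mem (pow_mem z.2 m)
    rw [hH.inf, Subgroup.mem_bot, ← orderOf_dvd_iff_pow_eq_one, D.order] at h2
    exact hnd h2
  have h := world_sum w x (fun χ => (χ : G → ℂ) g) _ ((sum_irr_mul_conj g x).trans (if_neg (fun hc => hno 1 (by
    simpa using hc)))) fun z _ => by rw [sum_irr_mul_conj, if_neg (hno z)]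
  exact (mul_eq_zero.1 h).resolve_left (Nat.cast_ne_zero.2 Nat.card_pos.ne')

/-- A conjugate of an element with central square times another is never in the class of `x` up to the centre. -/
theorem pairCount_eq_zero (hH : Compl (P : Subgroup G) (Subgroup.center G)) (D : Data P x e t)
    (hneg : (-1 : ZMod p) ∉ rts p e) {z : G} (hz : z * z ∈ Subgroup.center G) (c : Subgroup.center G) :
    pairCount z z (x * c) = 0 := by
  rw [pairCount, Nat.card_eq_zero]
  refine Or.inl ⟨fun ⟨a, ha, hb⟩ => hneg ?_⟩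
  obtain ⟨k, hk⟩ := isConj_iff.1 ha
  obtain ⟨l, hl⟩ := isConj_iff.1 hb
  set b := a⁻¹ * (x * (c : G)) with hbdef
  set s := z * z with hsdef
  have has : a * a = s := by
    rw [← hk, show k * z * k⁻¹ * (k * z * k⁻¹) = k * (z * z) * k⁻¹ by group,
      Subgroup.mem_center_iff.1 hz k, mul_inv_cancel_right]
  have hbs : b * b = s := by
    rw [← hl, show l * z * l⁻¹ * (l * z * l⁻¹) = l * (z * z) * l⁻¹ by group,
      Subgroup.mem_center_iff.1 hz l, mul_inv_cancel_right]
  have hy : a * b = x * (c : G) := by rw [hbdef, mul_inv_cancel_left]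
  have hy' : a * (x * (c : G)) * a⁻¹ = s * s * (x * (c : G))⁻¹ := by
    rw [← hy, _root_.mul_inv_rev, show b⁻¹ = b * s⁻¹ by rw [← hbs]; group,
      show s * s * (b * s⁻¹ * a⁻¹) = s * (s * b) * s⁻¹ * a⁻¹ by group,
      ← Subgroup.mem_center_iff.1 hz b, show s * (b * s) * s⁻¹ * a⁻¹ = s * b * a⁻¹ by group,
      ← has]
    group
  obtain ⟨N, hN, hNz⟩ : ∃ N, ¬ p ∣ N ∧ ∀ y ∈ Subgroup.center G, y ^ N = 1 :=
    ⟨Nat.card (Subgroup.center G), fun hd => by
      obtain ⟨y, hy⟩ := exists_prime_orderOf_dvd_card' p hd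
      have h1 := center_pow_p hH D (z := y) (by rw [← hy, ← Subgroup.orderOf_coe, pow_orderOf_eq_one])
      rw [h1, orderOf_one] at hy
      exact (Fact.out : p.Prime).one_lt.ne hy,
     fun y hy => congrArg Subtype.val (pow_card_eq_one' (x := (⟨y, hy⟩ : Subgroup.center G)))⟩
  have hcomm : ∀ (g : G) (y : G), y ∈ Subgroup.center G → Commute g y :=
    fun g y hy => Subgroup.mem_center_iff.1 hy g
  have hpow := congrArg (fun g : G => g ^ N) hy'
  simp only [conj_pow] at hpow
  rw [(hcomm x c c.2).mul_pow, hNz _ c.2, mul_one, ((hcomm _ _ (mul_mem hz hz)).symm).mul_pow,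
    hNz _ (mul_mem hz hz), one_mul, inv_pow, (hcomm x c c.2).mul_pow, hNz _ c.2, mul_one] at hpow
  rw [← xp_natCast D.pow] at hpow
  have hN0 : (N : ZMod p) ≠ 0 := fun h0 => hN ((ZMod.natCast_eq_zero_iff N p).1 h0)
  have hinv : (xp x (N : ZMod p))⁻¹ = xp x (-(N : ZMod p)) := by
    refine inv_eq_of_mul_eq_one_right ?_
    rw [← xp_add D.pow, add_neg_cancel, xp_zero]
  rw [hinv] at hpow
  have h1 := (conj_xp_iff D hN0).1 ⟨a, hpow⟩
  rwa [neg_div, div_self hN0] at h1

/-- The vanishing class sums over one central character. -/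
theorem sum_triple (hH : Compl (P : Subgroup G) (Subgroup.center G)) (D : Data P x e t)
    (hneg : (-1 : ZMod p) ∉ rts p e) (w : Subgroup.center G →* ℂ) {z : G}
    (hz : z * z ∈ Subgroup.center G) :
    ∑ χ ∈ world w, (χ : G → ℂ) z ^ 2 / (χ : G → ℂ) 1 * conj ((χ : G → ℂ) x) = 0 := by
  classical
  have h0 : ∀ c : Subgroup.center G,
      ∑ χ : IrrCharacter G, (χ : G → ℂ) z ^ 2 / (χ : G → ℂ) 1 * conj ((χ : G → ℂ) (x * c)) = 0 := by
    intro c
    have hG : (Nat.card G : ℂ) = (Nat.card (Subgroup.centralizer ({z} : Set G)) : ℂ) *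
        ((Subgroup.centralizer ({z} : Set G)).index : ℂ) := by
      rw [← Nat.cast_mul, Subgroup.card_mul_index]
    have h := pairCount_mul z z (x * (c : G))
    rw [pairCount_eq_zero hH D hneg hz c, Nat.cast_zero, zero_mul] at h
    have h2 : ∀ χ : IrrCharacter G, clv z χ * ((χ : G → ℂ) z * conj ((χ : G → ℂ) (x * c))) =
        ((Subgroup.centralizer ({z} : Set G)).index : ℂ) *
          ((χ : G → ℂ) z ^ 2 / (χ : G → ℂ) 1 * conj ((χ : G → ℂ) (x * c))) := fun χ => by
      rw [clv, centralChar]; ring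
    rw [Finset.sum_congr rfl fun χ _ => h2 χ, ← Finset.mul_sum] at h
    exact (mul_eq_zero.1 h.symm).resolve_left (Nat.cast_ne_zero.2 Subgroup.index_ne_zero_of_finite)
  have h := world_sum w x (fun χ => (χ : G → ℂ) z ^ 2 / (χ : G → ℂ) 1) 0 (by simpa using h0 1) fun c _ => h0 c
  exact (mul_eq_zero.1 h).resolve_left (Nat.cast_ne_zero.2 Nat.card_pos.ne')

end CfsgLib.LinearSmall.Nineteen
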